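import Groth.Agent.H22.Nagata.Side
import Groth.Agent.H22.Glue2.Basic
import Mathlib.AlgebraicGeometry.Morphisms.UniversallyClosed
import Mathlib.AlgebraicGeometry.ZariskisMainTheorem

/-!
# A compactification of a union of two opens
-/

set_option autoImplicit false
set_option maxHeartbeats 1000000

noncomputable section

universe u

open CategoryTheory CategoryTheory.Limits AlgebraicGeometry TopologicalSpace

namespace Groth.Agent.H22.Nagata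

open Groth.Agent.Lib

/-- Morphisms on two opens covering a scheme glue. -/
theorem exists_glue {X Y : Scheme.{u}} {O₁ O₂ : X.Opens} (hO : O₁ ⊔ O₂ = ⊤)
    (f₁ : (O₁ : Scheme.{u}) ⟶ Y) (f₂ : (O₂ : Scheme.{u}) ⟶ Y)
    (h : X.homOfLE (inf_le_left : O₁ ⊓ O₂ ≤ O₁) ≫ f₁ = X.homOfLE (inf_le_right : O₁ ⊓ O₂ ≤ O₂) ≫ f₂) :
    ∃ f : X ⟶ Y, O₁.ι ≫ f = f₁ ∧ O₂.ι ≫ f = f₂ := by
  let O : ULift.{u} Bool → X.Opens := fun i => cond i.down O₁ O₂
  let 𝒰 : X.OpenCover := X.openCoverOfIsOpenCover O (by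
    refine eq_top_iff.2 ?_
    rw [← hO]
    exact sup_le (le_iSup O ⟨true⟩) (le_iSup O ⟨false⟩))
  let F : ∀ i : ULift.{u} Bool, (O i : Scheme.{u}) ⟶ Y := fun i =>
    match i with
    | ⟨true⟩ => f₁
    | ⟨false⟩ => f₂
  have hF : ∀ i j, X.homOfLE (inf_le_left : O i ⊓ O j ≤ O i) ≫ F i =
      X.homOfLE (inf_le_right : O i ⊓ O j ≤ O j) ≫ F j := by
    rintro ⟨i⟩ ⟨j⟩
    cases i <;> cases j
    · rfl
    · have := congrArg (fun m => X.homOfLE (inf_comm (O₂ : X.Opens) O₁).le ≫ m) h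
      simp only [Scheme.homOfLE_homOfLE_assoc] at this
      exact this.symm
    · exact h
    · rfl
  have hpb : ∀ i j, pullback.fst (𝒰.f i) (𝒰.f j) ≫ F i = pullback.snd (𝒰.f i) (𝒰.f j) ≫ F j := by
    intro i j
    show pullback.fst (O i).ι (O j).ι ≫ F i = pullback.snd (O i).ι (O j).ι ≫ F j
    rw [← cancel_epi (isPullback_opens_inf (O i) (O j)).isoPullback.hom]
    erw [IsPullback.isoPullback_hom_fst_assoc, IsPullback.isoPullback_hom_snd_assoc]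
    exact hF i j
  exact ⟨𝒰.glueMorphisms F hpb, 𝒰.ι_glueMorphisms F hpb ⟨true⟩, 𝒰.ι_glueMorphisms F hpb ⟨false⟩⟩

theorem hom_ext_two {X Y : Scheme.{u}} {O₁ O₂ : X.Opens} (hO : O₁ ⊔ O₂ = ⊤) (f f' : X ⟶ Y)
    (h₁ : O₁.ι ≫ f = O₁.ι ≫ f') (h₂ : O₂.ι ≫ f = O₂.ι ≫ f') : f = f' := by
  let O : ULift.{u} Bool → X.Opens := fun i => cond i.down O₁ O₂
  refine Scheme.Cover.hom_ext (X.openCoverOfIsOpenCover O (by
    refine eq_top_iff.2 ?_
    rw [← hO]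
    exact sup_le (le_iSup O ⟨true⟩) (le_iSup O ⟨false⟩))) _ _ ?_
  rintro ⟨i⟩
  cases i
  · exact h₂
  · exact h₁

theorem isOpenImmersion_of_two {X Y : Scheme.{u}} {O₁ O₂ : X.Opens} (hO : O₁ ⊔ O₂ = ⊤) (f : X ⟶ Y)
    [IsOpenImmersion (O₁.ι ≫ f)] [IsOpenImmersion (O₂.ι ≫ f)] (hinj : Function.Injective f) :
    IsOpenImmersion f := by
  have hcov : ∀ x : X, x ∈ O₁ ∨ x ∈ O₂ := fun x => (hO.ge (trivial : x ∈ (⊤ : X.Opens)))
  have hstalk : ∀ (O : X.Opens) [IsOpenImmersion (O.ι ≫ f)] (x : X), x ∈ O → IsIso (f.stalkMap x) := by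
    intro O _ x hx
    have h1 : IsIso ((O.ι ≫ f).stalkMap ⟨x, hx⟩) := inferInstance
    rw [Scheme.Hom.stalkMap_comp] at h1
    exact @IsIso.of_isIso_comp_right _ _ _ _ _ _ _
      (inferInstanceAs (IsIso (O.ι.stalkMap ⟨x, hx⟩))) h1
  have hopen : IsOpenMap f := by
    intro T hT
    have : f '' T = (O₁.ι ≫ f) '' (O₁.ι ⁻¹' T) ∪ (O₂.ι ≫ f) '' (O₂.ι ⁻¹' T) := by
      ext y
      constructor
      · rintro ⟨x, hx, rfl⟩
        rcases hcov x with h | h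
        · exact Or.inl ⟨⟨x, h⟩, hx, by simp⟩
        · exact Or.inr ⟨⟨x, h⟩, hx, by simp⟩
      · rintro (⟨x, hx, rfl⟩ | ⟨x, hx, rfl⟩) <;> exact ⟨_, hx, (Scheme.Hom.comp_apply _ _ _).symm⟩
    rw [this]
    exact ((O₁.ι ≫ f).isOpenEmbedding.isOpenMap _ (hT.preimage O₁.ι.continuous)).union
      ((O₂.ι ≫ f).isOpenEmbedding.isOpenMap _ (hT.preimage O₂.ι.continuous))
  haveI : ∀ x, IsIso (f.stalkMap x) := fun x => (hcov x).elim (hstalk O₁ x) (hstalk O₂ x)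
  exact IsOpenImmersion.of_isIso_stalkMap f
    (Topology.IsOpenEmbedding.of_continuous_injective_isOpenMap f.continuous hinj hopen)

theorem isIso_restrict_of_cartier {X X' : Scheme.{u}} {r : X' ⟶ X} {K : X.IdealSheafData}
    (hr : BlowUp.IsBlowUp r K) (M : X.Opens) (hK : BlowUp.IsEffCartierIdeal (K.comap M.ι)) :
    IsIso (r ∣_ M) := by
  have h := BlowUpComp.isBlowUp_restrict hr M
  obtain ⟨s, hs, -⟩ := h.2 _ (𝟙 (M : Scheme.{u})) (by simpa using hK)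
  have hs' : (r ∣_ M) ≫ s = 𝟙 _ := by
    refine (h.2 _ (r ∣_ M) h.1).unique ?_ (Category.id_comp _)
    show ((r ∣_ M) ≫ s) ≫ (r ∣_ M) = r ∣_ M
    rw [Category.assoc, hs, Category.comp_id]
  exact ⟨s, hs', hs⟩

variable {U S : Scheme.{u}} {g : U ⟶ S} {V₁ V₂ : U.Opens}

theorem exists_union [IsNoetherian S] [LocallyOfFiniteType g] [QuasiCompact g] [IsSeparated g]
    (hcov : V₁ ⊔ V₂ = ⊤) (hdense : Dense ((V₁ ⊓ V₂ : U.Opens) : Set U))
    (D₁' : Comp g V₁) (D₂' : Comp g V₂) :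
    ∃ (Y : Scheme.{u}) (j : U ⟶ Y) (p : Y ⟶ S), IsOpenImmersion j ∧ QuasiCompact j ∧ IsProper p ∧
      j ≫ p = g := by
  set W := V₁ ⊓ V₂ with hW
  have h₁ : W ≤ V₁ := inf_le_left
  have h₂ : W ≤ V₂ := inf_le_right
  obtain ⟨D₁, D₂, J₁, J₂, X, q₁, q₂, w, hq₁, hJ₁, hJW₁, hq₂, hJ₂, hJW₂, hqq, hw₁, hw₂, hsep⟩ :=
    exists_common_blowUp h₁ h₂ le_rfl hdense D₁' D₂'
  set O₁ := q₁ ⁻¹ᵁ D₁.inner W with hO₁
  set O₂ := q₂ ⁻¹ᵁ D₂.inner W with hO₂
  obtain ⟨E₁, c₁, I₁, jj₁, hc₁, hI₁, hc₁p, hjc₁, hcπ₁, hI₁V, hjj₁, hjjc₁, hI₁G⟩ :=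
    exists_side D₁ h₁ J₁ hJ₁ hJW₁ q₁ hq₁
  obtain ⟨E₂, c₂, I₂, jj₂, hc₂, hI₂, hc₂p, hjc₂, hcπ₂, hI₂V, hjj₂, hjjc₂, hI₂G⟩ :=
    exists_side D₂ h₂ J₂ hJ₂ hJW₂ q₂ hq₂
  haveI := hc₁p; haveI := hc₂p
  haveI : IsProper q₁ := BlowUpExists.isProper_of_isBlowUp hq₁ hJ₁
  haveI : IsProper q₂ := BlowUpExists.isProper_of_isBlowUp hq₂ hJ₂
  haveI : IsOpenImmersion jj₁ := hjj₁
  haveI : IsOpenImmersion jj₂ := hjj₂
  let M : X.Opens := O₁ ⊓ O₂
  let K : X.IdealSheafData := I₁.comap q₁ * I₂.comap q₂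
  have hK : Lim.IdealExt.IsFG K := Flat55.GenericStrataScheme.isFG_mul
    (StrictTransform.isFG_comap' q₁ hI₁) (StrictTransform.isFG_comap' q₂ hI₂)
  let r := BlowUpExists.blProj K
  have hr : BlowUp.IsBlowUp r K := BlowUpAmple.isBlowUp_blProj K
  haveI : IsProper r := BlowUpExists.isProper_blProj hK
  have hKr := hr.1
  simp only [K, Lib.Ideal.Comap.comap_mul, ← Scheme.IdealSheafData.comap_comp] at hKr
  have hcr₁ : BlowUp.IsEffCartierIdeal (I₁.comap (r ≫ q₁)) :=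
    Lib.Ideal.EffCartier.isEffCartier_factor_left hKr
  have hcr₂ : BlowUp.IsEffCartierIdeal (I₂.comap (r ≫ q₂)) :=
    Lib.Ideal.EffCartier.isEffCartier_factor_right hKr
  obtain ⟨k₁, hk₁, -⟩ := hc₁.2 _ (r ≫ q₁) hcr₁
  obtain ⟨k₂, hk₂, -⟩ := hc₂.2 _ (r ≫ q₂) hcr₂
  haveI : IsProper k₁ := by
    haveI : IsProper (k₁ ≫ c₁) := by rw [hk₁]; infer_instance
    exact IsProper.of_comp k₁ c₁
  haveI : IsProper k₂ := by
    haveI : IsProper (k₂ ≫ c₂) := by rw [hk₂]; infer_instance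
    exact IsProper.of_comp k₂ c₂
  -- over the inner opens `kᵢ` is `jjᵢ`
  have hkj₁ : (r ⁻¹ᵁ O₁).ι ≫ k₁ = (r ∣_ O₁) ≫ jj₁ := by
    have hc : BlowUp.IsEffCartierIdeal (I₁.comap ((r ⁻¹ᵁ O₁).ι ≫ r ≫ q₁)) := by
      rw [Scheme.IdealSheafData.comap_comp]
      exact Lib.Ideal.EffCartier.isEffCartier_comap_of_flat _ hcr₁
    refine (hc₁.2 _ _ hc).unique ?_ ?_
    · show ((r ⁻¹ᵁ O₁).ι ≫ k₁) ≫ c₁ = _
      rw [Category.assoc, hk₁]
    · show ((r ∣_ O₁) ≫ jj₁) ≫ c₁ = _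
      rw [Category.assoc, hjjc₁, ← Category.assoc, morphismRestrict_ι, Category.assoc]
  have hkj₂ : (r ⁻¹ᵁ O₂).ι ≫ k₂ = (r ∣_ O₂) ≫ jj₂ := by
    have hc : BlowUp.IsEffCartierIdeal (I₂.comap ((r ⁻¹ᵁ O₂).ι ≫ r ≫ q₂)) := by
      rw [Scheme.IdealSheafData.comap_comp]
      exact Lib.Ideal.EffCartier.isEffCartier_comap_of_flat _ hcr₂
    refine (hc₂.2 _ _ hc).unique ?_ ?_
    · show ((r ⁻¹ᵁ O₂).ι ≫ k₂) ≫ c₂ = _
      rw [Category.assoc, hk₂]
    · show ((r ∣_ O₂) ≫ jj₂) ≫ c₂ = _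
      rw [Category.assoc, hjjc₂, ← Category.assoc, morphismRestrict_ι, Category.assoc]
  have hkx₁ : ∀ y (hy : r y ∈ O₁), k₁ y = jj₁ ⟨r y, hy⟩ := fun y hy => by
    have h := congrArg (fun m => m (⟨y, hy⟩ : (r ⁻¹ᵁ O₁).toScheme)) hkj₁
    simp only [Scheme.Hom.comp_apply] at h
    exact h.trans (congrArg jj₁ (Subtype.ext (by simp)))
  have hkx₂ : ∀ y (hy : r y ∈ O₂), k₂ y = jj₂ ⟨r y, hy⟩ := fun y hy => by
    have h := congrArg (fun m => m (⟨y, hy⟩ : (r ⁻¹ᵁ O₂).toScheme)) hkj₂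
    simp only [Scheme.Hom.comp_apply] at h
    exact h.trans (congrArg jj₂ (Subtype.ext (by simp)))
  have hck₁ : ∀ y, c₁ (k₁ y) = q₁ (r y) := fun y => by
    rw [← Scheme.Hom.comp_apply, hk₁, Scheme.Hom.comp_apply]
  have hck₂ : ∀ y, c₂ (k₂ y) = q₂ (r y) := fun y => by
    rw [← Scheme.Hom.comp_apply, hk₂, Scheme.Hom.comp_apply]
  -- the two pieces
  let N₁ : E₁.Y.Opens := ⟨(k₁ '' (r ⁻¹' (O₂ : Set X)ᶜ))ᶜ,
    (k₁.isClosedMap _ (O₂.2.isClosed_compl.preimage r.continuous)).isOpen_compl⟩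
  let N₂ : E₂.Y.Opens := ⟨(k₂ '' (r ⁻¹' (O₁ : Set X)ᶜ))ᶜ,
    (k₂.isClosedMap _ (O₁.2.isClosed_compl.preimage r.continuous)).isOpen_compl⟩
  have hO : ∀ x, x ∈ O₁ ∨ x ∈ O₂ := by
    intro x
    by_contra! h
    exact hsep x (not_not.1 h.1) (not_not.1 h.2)
  have hN₁ : ∀ y, r y ∈ O₂ → k₁ y ∈ N₁ := by
    rintro y hy ⟨y', hy', he⟩
    have hy'1 : r y' ∈ O₁ := (hO (r y')).resolve_right hy'
    have hy1 : r y ∈ O₁ := by
      show q₁ (r y) ∈ D₁.inner W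
      rw [← hck₁, ← he, hck₁]; exact hy'1
    rw [hkx₁ y' hy'1, hkx₁ y hy1] at he
    have := congrArg Subtype.val (jj₁.isOpenEmbedding.injective he)
    exact hy' (show r y' ∈ O₂ by rw [show r y' = r y from this]; exact hy)
  have hN₂ : ∀ y, r y ∈ O₁ → k₂ y ∈ N₂ := by
    rintro y hy ⟨y', hy', he⟩
    have hy'1 : r y' ∈ O₂ := (hO (r y')).resolve_left hy'
    have hy1 : r y ∈ O₂ := by
      show q₂ (r y) ∈ D₂.inner W
      rw [← hck₂, ← he, hck₂]; exact hy'1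
    rw [hkx₂ y' hy'1, hkx₂ y hy1] at he
    have := congrArg Subtype.val (jj₂.isOpenEmbedding.injective he)
    exact hy' (show r y' ∈ O₁ by rw [show r y' = r y from this]; exact hy)
  -- over the common open `r` is an isomorphism
  have hKM : BlowUp.IsEffCartierIdeal (K.comap M.ι) := by
    simp only [K, Lib.Ideal.Comap.comap_mul]
    refine Lib.Ideal.EffCartier.isEffCartier_mul ?_ ?_
    · rw [← Scheme.homOfLE_ι X (inf_le_left : M ≤ O₁), Scheme.IdealSheafData.comap_comp]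
      exact Lib.Ideal.EffCartier.isEffCartier_comap_of_flat _ hI₁G
    · rw [← Scheme.homOfLE_ι X (inf_le_right : M ≤ O₂), Scheme.IdealSheafData.comap_comp]
      exact Lib.Ideal.EffCartier.isEffCartier_comap_of_flat _ hI₂G
  haveI : IsIso (r ∣_ M) := isIso_restrict_of_cartier hr M hKM
  have hMk₁ : (r ∣_ M) ≫ X.homOfLE (inf_le_left : M ≤ O₁) ≫ jj₁ = (r ⁻¹ᵁ M).ι ≫ k₁ := by
    rw [← Scheme.homOfLE_ι _ (show r ⁻¹ᵁ M ≤ r ⁻¹ᵁ O₁ from fun _ h => h.1), Category.assoc, hkj₁,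
      ← Category.assoc, ← Category.assoc]
    congr 1
    rw [← cancel_mono O₁.ι]
    simp only [Category.assoc, Scheme.homOfLE_ι, morphismRestrict_ι, Scheme.homOfLE_ι_assoc]
  have hMk₂ : (r ∣_ M) ≫ X.homOfLE (inf_le_right : M ≤ O₂) ≫ jj₂ = (r ⁻¹ᵁ M).ι ≫ k₂ := by
    rw [← Scheme.homOfLE_ι _ (show r ⁻¹ᵁ M ≤ r ⁻¹ᵁ O₂ from fun _ h => h.2), Category.assoc, hkj₂,
      ← Category.assoc, ← Category.assoc]
    congr 1
    rw [← cancel_mono O₂.ι]
    simp only [Category.assoc, Scheme.homOfLE_ι, morphismRestrict_ι, Scheme.homOfLE_ι_assoc]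
  have hm₁r : Set.range (X.homOfLE (inf_le_left : M ≤ O₁) ≫ jj₁) ⊆ Set.range N₁.ι := by
    rintro _ ⟨x, rfl⟩
    obtain ⟨y, rfl⟩ := (r ∣_ M).surjective x
    rw [← Scheme.Hom.comp_apply, hMk₁, Scheme.Opens.range_ι, Scheme.Hom.comp_apply]
    exact hN₁ _ y.2.2
  have hm₂r : Set.range (X.homOfLE (inf_le_right : M ≤ O₂) ≫ jj₂) ⊆ Set.range N₂.ι := by
    rintro _ ⟨x, rfl⟩
    obtain ⟨y, rfl⟩ := (r ∣_ M).surjective x
    rw [← Scheme.Hom.comp_apply, hMk₂, Scheme.Opens.range_ι, Scheme.Hom.comp_apply]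
    exact hN₂ _ y.2.1
  let m₁ := IsOpenImmersion.lift N₁.ι _ hm₁r
  let m₂ := IsOpenImmersion.lift N₂.ι _ hm₂r
  have hm₁ : m₁ ≫ N₁.ι = X.homOfLE inf_le_left ≫ jj₁ := IsOpenImmersion.lift_fac _ _ _
  have hm₂ : m₂ ≫ N₂.ι = X.homOfLE inf_le_right ≫ jj₂ := IsOpenImmersion.lift_fac _ _ _
  haveI : IsOpenImmersion m₁ := by
    haveI : IsOpenImmersion (m₁ ≫ N₁.ι) := by rw [hm₁]; infer_instance
    exact IsOpenImmersion.of_comp m₁ N₁.ι
  haveI : IsOpenImmersion m₂ := by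
    haveI : IsOpenImmersion (m₂ ≫ N₂.ι) := by rw [hm₂]; infer_instance
    exact IsOpenImmersion.of_comp m₂ N₂.ι
  have hkk : k₁ ≫ E₁.π = k₂ ≫ E₂.π := by
    rw [← hcπ₁, ← hcπ₂, reassoc_of% hk₁, reassoc_of% hk₂, hqq]
  have hcomm : m₁ ≫ N₁.ι ≫ E₁.π = m₂ ≫ N₂.ι ≫ E₂.π := by
    rw [← cancel_epi (r ∣_ M), reassoc_of% hm₁, reassoc_of% hm₂, reassoc_of% hMk₁, reassoc_of% hMk₂,
      hkk]
  -- the graph is closed
  haveI : IsClosedImmersion (pullback.lift m₁ m₂ hcomm) := by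
    set l := pullback.lift m₁ m₂ hcomm
    let H : BlowUpExists.bl K ⟶ pullback E₁.π E₂.π := pullback.lift k₁ k₂ hkk
    haveI : IsProper H := by
      haveI : IsProper (H ≫ pullback.fst E₁.π E₂.π) := by
        rw [pullback.lift_fst]; infer_instance
      exact IsProper.of_comp H (pullback.fst E₁.π E₂.π)
    let Mp : pullback (N₁.ι ≫ E₁.π) (N₂.ι ≫ E₂.π) ⟶ pullback E₁.π E₂.π :=
      pullback.map _ _ _ _ N₁.ι N₂.ι (𝟙 S) (by simp) (by simp)
    haveI : IsOpenImmersion Mp :=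
      MorphismProperty.pullbackMap (P := @IsOpenImmersion) inferInstance inferInstance rfl rfl
    have hpre : r ⁻¹ᵁ M = H ⁻¹ᵁ Mp.opensRange := by
      ext y
      have e₁ : pullback.fst E₁.π E₂.π (H y) = k₁ y := by
        rw [← Scheme.Hom.comp_apply, pullback.lift_fst]
      have e₂ : pullback.snd E₁.π E₂.π (H y) = k₂ y := by
        rw [← Scheme.Hom.comp_apply, pullback.lift_snd]
      show r y ∈ M ↔ H y ∈ Set.range Mp
      simp only [Mp, Scheme.Pullback.range_map, Scheme.Opens.range_ι, Set.mem_inter_iff,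
        Set.mem_preimage, e₁, e₂]
      constructor
      · exact fun h => ⟨hN₁ y h.2, hN₂ y h.1⟩
      · rintro ⟨h1, h2⟩
        exact ⟨by_contra fun h => h2 ⟨y, h, rfl⟩, by_contra fun h => h1 ⟨y, h, rfl⟩⟩
    haveI : IsProper (H ∣_ Mp.opensRange) :=
      MorphismProperty.of_isPullback (isPullback_morphismRestrict H Mp.opensRange).flip inferInstance
    have hl : (r ∣_ M) ≫ l = ((BlowUpExists.bl K).isoOfEq hpre).hom ≫ (H ∣_ Mp.opensRange) ≫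
        Mp.isoOpensRange.inv := by
      rw [← cancel_mono Mp]
      simp only [Category.assoc, Scheme.Hom.isoOpensRange_inv_comp, morphismRestrict_ι,
        Scheme.isoOfEq_hom_ι_assoc]
      apply pullback.hom_ext
      · simp only [l, Mp, H, pullback.map, Category.assoc, pullback.lift_fst, pullback.lift_fst_assoc]
        rw [hm₁, hMk₁]
      · simp only [l, Mp, H, pullback.map, Category.assoc, pullback.lift_snd, pullback.lift_snd_assoc]
        rw [hm₂, hMk₂]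
    haveI : IsProper l := by
      have e : l = inv (r ∣_ M) ≫ ((BlowUpExists.bl K).isoOfEq hpre).hom ≫ (H ∣_ Mp.opensRange) ≫
          Mp.isoOpensRange.inv := by rw [← hl, IsIso.inv_hom_id_assoc]
      rw [e]; infer_instance
    haveI : Mono l := mono_of_mono_fac (pullback.lift_fst m₁ m₂ hcomm)
    exact (IsClosedImmersion.iff_isProper_and_mono l).2 ⟨inferInstance, inferInstance⟩
  -- the glued scheme
  let p := pushout.desc (N₁.ι ≫ E₁.π) (N₂.ι ≫ E₂.π) hcomm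
  haveI := compactSpace_of_noetherian E₁
  haveI := compactSpace_of_noetherian E₂
  haveI : CompactSpace (N₁ : Scheme.{u}) := isCompact_iff_compactSpace.1 (NoetherianSpace.isCompact _)
  haveI : CompactSpace (N₂ : Scheme.{u}) := isCompact_iff_compactSpace.1 (NoetherianSpace.isCompact _)
  haveI : IsSeparated p := Glue2.isSeparated_desc m₁ m₂ _ _ hcomm
  haveI : LocallyOfFiniteType p := Glue2.locallyOfFiniteType_desc m₁ m₂ _ _ hcomm
  haveI : QuasiCompact p := Glue2.quasiCompact_desc m₁ m₂ _ _ hcomm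
  have hinl : pushout.inl m₁ m₂ ≫ p = N₁.ι ≫ E₁.π := pushout.inl_desc _ _ _
  have hinr : pushout.inr m₁ m₂ ≫ p = N₂.ι ≫ E₂.π := pushout.inr_desc _ _ _
  -- the map from the proper scheme
  have hbcov : r ⁻¹ᵁ O₂ ⊔ r ⁻¹ᵁ O₁ = ⊤ := by
    refine eq_top_iff.2 fun y _ => ?_
    exact (hO (r y)).symm
  have hl₁ : Set.range ((r ⁻¹ᵁ O₂).ι ≫ k₁) ⊆ Set.range N₁.ι := by
    rintro _ ⟨y, rfl⟩
    rw [Scheme.Opens.range_ι, Scheme.Hom.comp_apply]
    exact hN₁ _ y.2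
  have hl₂ : Set.range ((r ⁻¹ᵁ O₁).ι ≫ k₂) ⊆ Set.range N₂.ι := by
    rintro _ ⟨y, rfl⟩
    rw [Scheme.Opens.range_ι, Scheme.Hom.comp_apply]
    exact hN₂ _ y.2
  let t₁ := IsOpenImmersion.lift N₁.ι _ hl₁
  let t₂ := IsOpenImmersion.lift N₂.ι _ hl₂
  obtain ⟨F, hF₁, hF₂⟩ := exists_glue hbcov (t₁ ≫ pushout.inl m₁ m₂) (t₂ ≫ pushout.inr m₁ m₂) (by
    have hle : r ⁻¹ᵁ O₂ ⊓ r ⁻¹ᵁ O₁ ≤ r ⁻¹ᵁ M := fun y hy => ⟨hy.2, hy.1⟩
    have e₁ : (BlowUpExists.bl K).homOfLE inf_le_left ≫ t₁ =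
        (BlowUpExists.bl K).homOfLE hle ≫ (r ∣_ M) ≫ m₁ := by
      rw [← cancel_mono N₁.ι]
      simp only [t₁, Category.assoc, IsOpenImmersion.lift_fac, hm₁, hMk₁, Scheme.homOfLE_ι_assoc]
    have e₂ : (BlowUpExists.bl K).homOfLE inf_le_right ≫ t₂ =
        (BlowUpExists.bl K).homOfLE hle ≫ (r ∣_ M) ≫ m₂ := by
      rw [← cancel_mono N₂.ι]
      simp only [t₂, Category.assoc, IsOpenImmersion.lift_fac, hm₂, hMk₂, Scheme.homOfLE_ι_assoc]
    rw [reassoc_of% e₁, reassoc_of% e₂, pushout.condition])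
  have hFp : F ≫ p = k₁ ≫ E₁.π := by
    refine hom_ext_two hbcov _ _ ?_ ?_
    · rw [reassoc_of% hF₁, hinl]
      simp only [t₁, IsOpenImmersion.lift_fac_assoc, Category.assoc]
    · rw [reassoc_of% hF₂, hinr]
      simp only [t₂, IsOpenImmersion.lift_fac_assoc, Category.assoc, hkk]
  have hqw₁ : ∀ v : W, q₁ (w v) = D₁.j ⟨v.1, h₁ v.2⟩ := fun v => by
    rw [← Scheme.Hom.comp_apply, hw₁, Scheme.Hom.comp_apply]
    exact congrArg D₁.j (Subtype.ext (by simp))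
  have hqw₂ : ∀ v : W, q₂ (w v) = D₂.j ⟨v.1, h₂ v.2⟩ := fun v => by
    rw [← Scheme.Hom.comp_apply, hw₂, Scheme.Hom.comp_apply]
    exact congrArg D₂.j (Subtype.ext (by simp))
  obtain ⟨wh, hwh, -⟩ := hr.2 _ w (Lib.Ideal.EffCartier.isEffCartier_comap_of_disjoint _ fun t ht => by
    simp only [K, Scheme.IdealSheafData.support_mul, Scheme.IdealSheafData.support_comap] at ht
    rcases ht with ht | ht
    · exact hI₁V _ ⟨_, (hqw₁ t).symm⟩ ht
    · exact hI₂V _ ⟨_, (hqw₂ t).symm⟩ ht)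
  haveI : IsIso (q₁ ∣_ J₁.support.compl) := Lib.Ideal.BlowUp.isIso_off_center hq₁
  haveI : IsIso (q₂ ∣_ J₂.support.compl) := Lib.Ideal.BlowUp.isIso_off_center hq₂
  have hinj₁ : ∀ x (v : W), q₁ x = q₁ (w v) → x = w v := fun x v he =>
    StrictTransform.injOn_of_isIso (φ := q₁) (U := J₁.support.compl) (hJW₁ _ ⟨v, by
      rw [← Scheme.Hom.comp_apply, hw₁]⟩) he
  have hinj₂ : ∀ x (v : W), q₂ x = q₂ (w v) → x = w v := fun x v he =>
    StrictTransform.injOn_of_isIso (φ := q₂) (U := J₂.support.compl) (hJW₂ _ ⟨v, by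
      rw [← Scheme.Hom.comp_apply, hw₂]⟩) he
  have hkw₁ : wh ≫ k₁ = U.homOfLE h₁ ≫ E₁.j := by
    have hc : BlowUp.IsEffCartierIdeal (I₁.comap (U.homOfLE h₁ ≫ D₁.j)) :=
      Lib.Ideal.EffCartier.isEffCartier_comap_of_disjoint _ fun t => hI₁V _ ⟨_, (Scheme.Hom.comp_apply _ _ _).symm⟩
    refine (hc₁.2 _ _ hc).unique ?_ ?_
    · show (wh ≫ k₁) ≫ c₁ = _
      rw [Category.assoc, hk₁, reassoc_of% hwh, hw₁]
    · show (U.homOfLE h₁ ≫ E₁.j) ≫ c₁ = _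
      rw [Category.assoc, hjc₁]
  have hkw₂ : wh ≫ k₂ = U.homOfLE h₂ ≫ E₂.j := by
    have hc : BlowUp.IsEffCartierIdeal (I₂.comap (U.homOfLE h₂ ≫ D₂.j)) :=
      Lib.Ideal.EffCartier.isEffCartier_comap_of_disjoint _ fun t => hI₂V _ ⟨_, (Scheme.Hom.comp_apply _ _ _).symm⟩
    refine (hc₂.2 _ _ hc).unique ?_ ?_
    · show (wh ≫ k₂) ≫ c₂ = _
      rw [Category.assoc, hk₂, reassoc_of% hwh, hw₂]
    · show (U.homOfLE h₂ ≫ E₂.j) ≫ c₂ = _
      rw [Category.assoc, hjc₂]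
  haveI : Surjective F := ⟨by
    intro z
    have hsurj₁ : Function.Surjective k₁ := by
      intro n
      have hcl : closure (E₁.core h₁ : Set E₁.Y) ⊆ Set.range k₁ :=
        closure_minimal (by
          rintro _ ⟨v, rfl⟩
          exact ⟨wh v, by rw [← Scheme.Hom.comp_apply, hkw₁]⟩) k₁.isClosedMap.isClosed_range
      exact hcl ((dense_core E₁ h₁ hdense).closure_eq ▸ trivial)
    have hsurj₂ : Function.Surjective k₂ := by
      intro n
      have hcl : closure (E₂.core h₂ : Set E₂.Y) ⊆ Set.range k₂ :=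
        closure_minimal (by
          rintro _ ⟨v, rfl⟩
          exact ⟨wh v, by rw [← Scheme.Hom.comp_apply, hkw₂]⟩) k₂.isClosedMap.isClosed_range
      exact hcl ((dense_core E₂ h₂ hdense).closure_eq ▸ trivial)
    rcases (Set.ext_iff.1 (Glue2.range_union m₁ m₂) z).2 trivial with ⟨n, rfl⟩ | ⟨n, rfl⟩
    · obtain ⟨y, hy⟩ := hsurj₁ n.1
      have hyO : r y ∈ O₂ := by_contra fun h => n.2 ⟨y, h, hy⟩
      refine ⟨y, ?_⟩
      have h := congrArg (fun m => m (⟨y, hyO⟩ : (r ⁻¹ᵁ O₂).toScheme)) hF₁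
      simp only [Scheme.Hom.comp_apply] at h
      refine h.trans (congrArg (pushout.inl m₁ m₂) (N₁.ι.isOpenEmbedding.injective ?_))
      rw [← Scheme.Hom.comp_apply, IsOpenImmersion.lift_fac, Scheme.Hom.comp_apply]
      exact hy
    · obtain ⟨y, hy⟩ := hsurj₂ n.1
      have hyO : r y ∈ O₁ := by_contra fun h => n.2 ⟨y, h, hy⟩
      refine ⟨y, ?_⟩
      have h := congrArg (fun m => m (⟨y, hyO⟩ : (r ⁻¹ᵁ O₁).toScheme)) hF₂
      simp only [Scheme.Hom.comp_apply] at h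
      refine h.trans (congrArg (pushout.inr m₁ m₂) (N₂.ι.isOpenEmbedding.injective ?_))
      rw [← Scheme.Hom.comp_apply, IsOpenImmersion.lift_fac, Scheme.Hom.comp_apply]
      exact hy⟩
  haveI : UniversallyClosed (F ≫ p) := by rw [hFp]; infer_instance
  haveI : UniversallyClosed p := UniversallyClosed.of_comp_surjective F p
  haveI : IsProper p := ⟨⟩
  -- `U` embeds
  have hj₁N : Set.range E₁.j ⊆ Set.range N₁.ι := by
    rw [Scheme.Opens.range_ι]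
    rintro _ ⟨v, rfl⟩ ⟨y, hy, he⟩
    have hq : q₁ (r y) = D₁.j v := by
      rw [← hck₁, he, ← Scheme.Hom.comp_apply, hjc₁]
    have hvW : v.1 ∈ W := by
      by_contra hn
      exact hsep (r y) (hq ▸ subset_closure ⟨v, hn, rfl⟩) (not_not.1 hy)
    have hry : r y = w ⟨v.1, hvW⟩ := hinj₁ _ _ (hq.trans (hqw₁ ⟨v.1, hvW⟩).symm)
    obtain ⟨v', hv', he'⟩ := D₂.bd_inter_range W
      ⟨not_not.1 hy, ⟨_, (hqw₂ ⟨v.1, hvW⟩).symm.trans (congrArg q₂ hry).symm⟩⟩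
    have := D₂.j.isOpenEmbedding.injective ((he'.trans (congrArg q₂ hry)).trans (hqw₂ _))
    exact hv' (show v'.1 ∈ W by rw [this]; exact hvW)
  have hj₂N : Set.range E₂.j ⊆ Set.range N₂.ι := by
    rw [Scheme.Opens.range_ι]
    rintro _ ⟨v, rfl⟩ ⟨y, hy, he⟩
    have hq : q₂ (r y) = D₂.j v := by
      rw [← hck₂, he, ← Scheme.Hom.comp_apply, hjc₂]
    have hvW : v.1 ∈ W := by
      by_contra hn
      exact hsep (r y) (not_not.1 hy) (hq ▸ subset_closure ⟨v, hn, rfl⟩)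
    have hry : r y = w ⟨v.1, hvW⟩ := hinj₂ _ _ (hq.trans (hqw₂ ⟨v.1, hvW⟩).symm)
    obtain ⟨v', hv', he'⟩ := D₁.bd_inter_range W
      ⟨not_not.1 hy, ⟨_, (hqw₁ ⟨v.1, hvW⟩).symm.trans (congrArg q₁ hry).symm⟩⟩
    have := D₁.j.isOpenEmbedding.injective ((he'.trans (congrArg q₁ hry)).trans (hqw₁ _))
    exact hv' (show v'.1 ∈ W by rw [this]; exact hvW)
  let u₁ := IsOpenImmersion.lift N₁.ι E₁.j hj₁N
  let u₂ := IsOpenImmersion.lift N₂.ι E₂.j hj₂N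
  have hwM : Set.range wh ⊆ Set.range (r ⁻¹ᵁ M).ι := by
    rw [Scheme.Opens.range_ι]
    rintro _ ⟨v, rfl⟩
    show r (wh v) ∈ M
    rw [← Scheme.Hom.comp_apply, hwh]
    refine ⟨fun hb => ?_, fun hb => ?_⟩
    · obtain ⟨v', hv', he'⟩ := D₁.bd_inter_range W ⟨hb, ⟨_, (hqw₁ v).symm⟩⟩
      have := D₁.j.isOpenEmbedding.injective (he'.trans (hqw₁ v))
      exact hv' (show v'.1 ∈ W by rw [this]; exact v.2)
    · obtain ⟨v', hv', he'⟩ := D₂.bd_inter_range W ⟨hb, ⟨_, (hqw₂ v).symm⟩⟩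
      have := D₂.j.isOpenEmbedding.injective (he'.trans (hqw₂ v))
      exact hv' (show v'.1 ∈ W by rw [this]; exact v.2)
  let wM := IsOpenImmersion.lift (r ⁻¹ᵁ M).ι wh hwM ≫ (r ∣_ M)
  have hu₁ : U.homOfLE h₁ ≫ u₁ = wM ≫ m₁ := by
    rw [← cancel_mono N₁.ι]
    simp only [u₁, wM, Category.assoc, IsOpenImmersion.lift_fac, hm₁, hMk₁,
      IsOpenImmersion.lift_fac_assoc, hkw₁]
  have hu₂ : U.homOfLE h₂ ≫ u₂ = wM ≫ m₂ := by
    rw [← cancel_mono N₂.ι]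
    simp only [u₂, wM, Category.assoc, IsOpenImmersion.lift_fac, hm₂, hMk₂,
      IsOpenImmersion.lift_fac_assoc, hkw₂]
  obtain ⟨j, hj₁, hj₂⟩ := exists_glue hcov (u₁ ≫ pushout.inl m₁ m₂) (u₂ ≫ pushout.inr m₁ m₂)
    (by rw [reassoc_of% hu₁, reassoc_of% hu₂, pushout.condition])
  have hjp : j ≫ p = g := by
    refine hom_ext_two hcov _ _ ?_ ?_
    · rw [reassoc_of% hj₁, hinl]
      simp only [u₁, IsOpenImmersion.lift_fac_assoc, E₁.fac]
    · rw [reassoc_of% hj₂, hinr]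
      simp only [u₂, IsOpenImmersion.lift_fac_assoc, E₂.fac]
  haveI : IsOpenImmersion (V₁.ι ≫ j) := by
    rw [hj₁]
    haveI : IsOpenImmersion (u₁ ≫ N₁.ι) := by rw [IsOpenImmersion.lift_fac]; infer_instance
    haveI : IsOpenImmersion u₁ := IsOpenImmersion.of_comp u₁ N₁.ι
    infer_instance
  haveI : IsOpenImmersion (V₂.ι ≫ j) := by
    rw [hj₂]
    haveI : IsOpenImmersion (u₂ ≫ N₂.ι) := by rw [IsOpenImmersion.lift_fac]; infer_instance
    haveI : IsOpenImmersion u₂ := IsOpenImmersion.of_comp u₂ N₂.ι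
    infer_instance
  have hcross : ∀ (a : V₁) (b : V₂), j a.1 = j b.1 → a.1 = b.1 := by
    intro a b hab
    have ea := congrArg (fun m => m a) hj₁
    have eb := congrArg (fun m => m b) hj₂
    simp only [Scheme.Hom.comp_apply] at ea eb
    obtain ⟨m, hma, hmb⟩ := (Glue2.inl_eq_inr_iff m₁ m₂ (u₁ a) (u₂ b)).1
      (ea.symm.trans (hab.trans eb))
    obtain ⟨y, rfl⟩ := (r ∣_ M).surjective m
    have hyM : r y.1 ∈ M := y.2
    have e₁ : E₁.j a = k₁ y.1 := by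
      have h3 := congrArg (fun z => N₁.ι z) hma
      simp only [← Scheme.Hom.comp_apply, u₁, IsOpenImmersion.lift_fac] at h3
      rw [Category.assoc, hm₁, hMk₁] at h3
      exact h3.symm.trans (Scheme.Hom.comp_apply _ _ _)
    have e₂ : E₂.j b = k₂ y.1 := by
      have h3 := congrArg (fun z => N₂.ι z) hmb
      simp only [← Scheme.Hom.comp_apply, u₂, IsOpenImmersion.lift_fac] at h3
      rw [Category.assoc, hm₂, hMk₂] at h3
      exact h3.symm.trans (Scheme.Hom.comp_apply _ _ _)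
    have f₁ : q₁ (r y.1) = D₁.j a := by rw [← hck₁, ← e₁, ← Scheme.Hom.comp_apply, hjc₁]
    have f₂ : q₂ (r y.1) = D₂.j b := by rw [← hck₂, ← e₂, ← Scheme.Hom.comp_apply, hjc₂]
    have haW : a.1 ∈ W := by
      by_contra hn
      exact hyM.1 (show q₁ (r y.1) ∈ D₁.bd W from f₁ ▸ subset_closure ⟨a, hn, rfl⟩)
    have hry := hinj₁ (r y.1) ⟨a.1, haW⟩ (by rw [f₁, hqw₁])
    rw [hry, hqw₂] at f₂
    have := D₂.j.isOpenEmbedding.injective f₂
    exact congrArg Subtype.val this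
  have hinj : Function.Injective j := by
    intro a b hab
    rcases hcov.ge (trivial : a ∈ (⊤ : U.Opens)) with ha | ha <;>
      rcases hcov.ge (trivial : b ∈ (⊤ : U.Opens)) with hb | hb
    · exact congrArg Subtype.val ((V₁.ι ≫ j).isOpenEmbedding.injective
        (a₁ := ⟨a, ha⟩) (a₂ := ⟨b, hb⟩) (by simpa using hab))
    · exact hcross ⟨a, ha⟩ ⟨b, hb⟩ hab
    · exact (hcross ⟨b, hb⟩ ⟨a, ha⟩ hab.symm).symm
    · exact congrArg Subtype.val ((V₂.ι ≫ j).isOpenEmbedding.injective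
        (a₁ := ⟨a, ha⟩) (a₂ := ⟨b, hb⟩) (by simpa using hab))
  haveI : IsOpenImmersion j := isOpenImmersion_of_two hcov j hinj
  haveI : CompactSpace U := QuasiCompact.compactSpace_of_compactSpace g
  haveI : QuasiCompact j := by
    haveI : QuasiCompact (j ≫ p) := by rw [hjp]; infer_instance
    exact QuasiCompact.of_comp j p
  exact ⟨_, j, p, inferInstance, inferInstance, inferInstance, hjp⟩

/-- Replacing a compactification by the closure of the open. -/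
theorem exists_comp_of [IsNoetherian S] {V : U.Opens} [LocallyOfFiniteType g] [QuasiCompact g]
    (Y : Scheme.{u}) (j : (V : Scheme.{u}) ⟶ Y) (p : Y ⟶ S) [IsOpenImmersion j] [QuasiCompact j]
    [IsProper p] (h : j ≫ p = V.ι ≫ g) : Nonempty (Comp g V) :=
  ⟨⟨j.image, j.imageι ≫ p, inferInstance, j.toImage, inferInstance,
    by rw [Scheme.Hom.toImage_imageι_assoc, h], j.toImage.denseRange⟩⟩

end Groth.Agent.H22.Nagata
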