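import Groth.Agent.H22.Nagata.Glue
import Groth.Agent.Lib.Chow.Embed
import Groth.Agent.Lib.ProjSpace.BaseChange
import Groth.Agent.Lib.HTopSheaf.PhExtend
import Groth.Agent.S1280

/-!
# Compactifiable morphisms over a Noetherian scheme
-/

set_option autoImplicit false
set_option maxHeartbeats 1000000

noncomputable section

universe u

open CategoryTheory CategoryTheory.Limits AlgebraicGeometry TopologicalSpace

namespace Groth.Agent.H22.Nagata

open Groth.Agent.Lib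

/-- The morphism factors as a quasi-compact open immersion followed by a proper one. -/
def Compactifiable {X S : Scheme.{u}} (f : X ⟶ S) : Prop :=
  ∃ (Y : Scheme.{u}) (j : X ⟶ Y) (p : Y ⟶ S), IsOpenImmersion j ∧ QuasiCompact j ∧ IsProper p ∧
    j ≫ p = f

theorem Compactifiable.of_openImmersion {X X' S : Scheme.{u}} {f' : X' ⟶ S}
    (h : Compactifiable f') (e : X ⟶ X') [IsOpenImmersion e] [QuasiCompact e] {f : X ⟶ S}
    (he : e ≫ f' = f) : Compactifiable f := by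
  obtain ⟨Y, j, p, hj, hq, hp, hjp⟩ := h
  exact ⟨Y, e ≫ j, p, inferInstance, inferInstance, hp, by rw [Category.assoc, hjp, he]⟩

theorem compactifiable_of_immersion {X Y S : Scheme.{u}} (i : X ⟶ Y) [IsImmersion i] [QuasiCompact i]
    (p : Y ⟶ S) [IsProper p] : Compactifiable (i ≫ p) :=
  ⟨i.image, i.toImage, i.imageι ≫ p, inferInstance, inferInstance, inferInstance,
    by rw [Scheme.Hom.toImage_imageι_assoc]⟩

theorem compactifiable_affine {X S : Scheme.{u}} [QuasiSeparatedSpace S] (f : X ⟶ S)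
    [LocallyOfFiniteType f] (V : X.Opens) (hV : IsAffineOpen V) (T : S.Opens) (hT : IsAffineOpen T)
    (h : V ≤ f ⁻¹ᵁ T) : Compactifiable (V.ι ≫ f) := by
  obtain ⟨m, O, c, hc, hcf, -⟩ := Chow.Embed.exists_embed f V hV T hT h
  haveI : IsAffine (V : Scheme.{u}) := hV
  haveI : QuasiSeparatedSpace (CohB1.ProjSpaceOver (m + 1) S) :=
    quasiSeparatedSpace_of_quasiSeparated (CohB1.ProjSpaceOver.toBase (m + 1) S)
  haveI : QuasiCompact (c ≫ O.ι) :=
    quasiCompact_of_compactSpace _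
  rw [← hcf, ← Category.assoc]
  exact compactifiable_of_immersion _ _

variable {U S : Scheme.{u}}

theorem compactifiable_disjoint (g : U ⟶ S) [IsNoetherian U] {A B : U.Opens} (hAB : Disjoint A B)
    (hA : Compactifiable (A.ι ≫ g)) (hB : Compactifiable (B.ι ≫ g)) :
    Compactifiable ((A ⊔ B).ι ≫ g) := by
  obtain ⟨Y₁, j₁, p₁, hj₁, hq₁, hp₁, e₁⟩ := hA
  obtain ⟨Y₂, j₂, p₂, hj₂, hq₂, hp₂, e₂⟩ := hB
  set W : Scheme.{u} := (A ⊔ B : U.Opens).toScheme
  let A' : W.Opens := (A ⊔ B).ι ⁻¹ᵁ A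
  let B' : W.Opens := (A ⊔ B).ι ⁻¹ᵁ B
  have hAB' : A' ⊔ B' = ⊤ := eq_top_iff.2 fun x _ => x.2
  let a : (A' : Scheme.{u}) ⟶ (A : Scheme.{u}) := (A ⊔ B).ι ∣_ A
  let b : (B' : Scheme.{u}) ⟶ (B : Scheme.{u}) := (A ⊔ B).ι ∣_ B
  haveI : IsOpenImmersion a := MorphismProperty.of_isPullback (isPullback_morphismRestrict _ _).flip inferInstance
  haveI : IsOpenImmersion b := MorphismProperty.of_isPullback (isPullback_morphismRestrict _ _).flip inferInstance
  obtain ⟨j, hjA, hjB⟩ := exists_glue hAB' (a ≫ j₁ ≫ (coprod.inl : Y₁ ⟶ Y₁ ⨿ Y₂))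
    (b ≫ j₂ ≫ coprod.inr) (by
      haveI : IsEmpty ((A' ⊓ B' : W.Opens) : Scheme.{u}) :=
        ⟨fun x => (Set.disjoint_left.1 (Opens.coe_disjoint.2 hAB) x.2.1 x.2.2)⟩
      exact (isInitialOfIsEmpty).hom_ext _ _)
  have hjx₁ : ∀ x : A', j x.1 = (coprod.inl : Y₁ ⟶ Y₁ ⨿ Y₂) (j₁ (a x)) := fun x => by
    have h := congrArg (fun m => m x) hjA
    simpa using h
  have hjx₂ : ∀ x : B', j x.1 = (coprod.inr : Y₂ ⟶ Y₁ ⨿ Y₂) (j₂ (b x)) := fun x => by
    have h := congrArg (fun m => m x) hjB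
    simpa using h
  haveI : IsOpenImmersion (A'.ι ≫ j) := by rw [hjA]; infer_instance
  haveI : IsOpenImmersion (B'.ι ≫ j) := by rw [hjB]; infer_instance
  have hinj : Function.Injective j := by
    intro x y hxy
    rcases hAB'.ge (trivial : x ∈ (⊤ : W.Opens)) with hx | hx <;>
      rcases hAB'.ge (trivial : y ∈ (⊤ : W.Opens)) with hy | hy
    · exact congrArg Subtype.val ((A'.ι ≫ j).isOpenEmbedding.injective
        (a₁ := ⟨x, hx⟩) (a₂ := ⟨y, hy⟩) (by simpa using hxy))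
    · exact absurd ((hjx₁ ⟨x, hx⟩).symm.trans (hxy.trans (hjx₂ ⟨y, hy⟩))) (inl_ne_inr _ _ _ _)
    · exact absurd ((hjx₁ ⟨y, hy⟩).symm.trans (hxy.symm.trans (hjx₂ ⟨x, hx⟩))) (inl_ne_inr _ _ _ _)
    · exact congrArg Subtype.val ((B'.ι ≫ j).isOpenEmbedding.injective
        (a₁ := ⟨x, hx⟩) (a₂ := ⟨y, hy⟩) (by simpa using hxy))
  haveI : IsOpenImmersion j := isOpenImmersion_of_two hAB' j hinj
  haveI : IsProper (coprod.desc p₁ p₂) := HTopSheaf.PhExtend.isProper_coprodDesc p₁ p₂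
  haveI : QuasiCompact j := by
    haveI : IsLocallyNoetherian W := inferInstance
    haveI : NoetherianSpace W := (A ⊔ B).ι.isOpenEmbedding.isInducing.noetherianSpace
    refine ⟨fun T _ _ => NoetherianSpace.isCompact _⟩
  refine ⟨_, j, coprod.desc p₁ p₂, inferInstance, inferInstance, inferInstance,
    hom_ext_two hAB' _ _ ?_ ?_⟩
  · rw [reassoc_of% hjA, coprod.inl_desc, e₁]
    exact morphismRestrict_ι_assoc _ _ _
  · rw [reassoc_of% hjB, coprod.inr_desc, e₂]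
    exact morphismRestrict_ι_assoc _ _ _

theorem compactifiable_union [IsNoetherian S] (g : U ⟶ S) [IsNoetherian U] [IsSeparated g]
    [LocallyOfFiniteType g] [QuasiCompact g] {A B : U.Opens}
    (hd : Dense ((((A ⊔ B).ι ⁻¹ᵁ A) ⊓ ((A ⊔ B).ι ⁻¹ᵁ B) : ((A ⊔ B : U.Opens) : Scheme.{u}).Opens) :
      Set ((A ⊔ B : U.Opens) : Scheme.{u})))
    (hA : Compactifiable (A.ι ≫ g)) (hB : Compactifiable (B.ι ≫ g)) :
    Compactifiable ((A ⊔ B).ι ≫ g) := by
  haveI : CompactSpace ((A ⊔ B : U.Opens) : Scheme.{u}) :=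
    isCompact_iff_compactSpace.1 (NoetherianSpace.isCompact _)
  haveI : QuasiCompact ((A ⊔ B).ι ≫ g) := inferInstance
  have key : ∀ C : U.Opens, Compactifiable (C.ι ≫ g) →
      Compactifiable (((A ⊔ B).ι ⁻¹ᵁ C).ι ≫ (A ⊔ B).ι ≫ g) := fun C hC => by
    haveI : IsOpenImmersion ((A ⊔ B).ι ∣_ C) :=
      MorphismProperty.of_isPullback (isPullback_morphismRestrict _ _).flip inferInstance
    haveI : QuasiCompact ((A ⊔ B).ι ∣_ C) :=
      MorphismProperty.of_isPullback (isPullback_morphismRestrict _ _).flip inferInstance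
    exact hC.of_openImmersion ((A ⊔ B).ι ∣_ C) (morphismRestrict_ι_assoc _ _ _)
  exact Groth.Agent.S1280.result ((A ⊔ B).ι ≫ g) _ _
    (eq_top_iff.2 fun x _ => x.2) hd (key A hA) (key B hB)

theorem compactifiable_noetherian [IsNoetherian S] (g : U ⟶ S) [IsSeparated g]
    [LocallyOfFiniteType g] [QuasiCompact g] : Compactifiable g := by
  haveI : CompactSpace U := QuasiCompact.compactSpace_of_compactSpace g
  haveI : IsLocallyNoetherian U := LocallyOfFiniteType.isLocallyNoetherian g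
  haveI : IsNoetherian U := { }
  have hsmall : ∀ (V : U.Opens), IsAffineOpen V → (∃ T : S.Opens, IsAffineOpen T ∧ V ≤ g ⁻¹ᵁ T) →
      ∀ W, W ≤ V → Compactifiable (W.ι ≫ g) := by
    rintro V hV ⟨T, hT, hVT⟩ W hW
    haveI : QuasiCompact (U.homOfLE hW) := by
      haveI : QuasiCompact (U.homOfLE hW ≫ V.ι) := by rw [Scheme.homOfLE_ι]; infer_instance
      exact QuasiCompact.of_comp (U.homOfLE hW) V.ι
    exact (compactifiable_affine g V hV T hT hVT).of_openImmersion (U.homOfLE hW)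
      (Scheme.homOfLE_ι_assoc _ _ _)
  obtain ⟨V, hV, hmax⟩ := (wellFounded_gt (α := U.Opens)).has_min {V | Compactifiable (V.ι ≫ g)}
    ⟨⊥, hsmall ⊥ (isAffineOpen_bot U) ⟨⊥, isAffineOpen_bot S, bot_le⟩ ⊥ le_rfl⟩
  suffices hV' : V = ⊤ by
    subst hV'
    exact Compactifiable.of_openImmersion hV U.topIso.inv (Iso.inv_hom_id_assoc U.topIso g)
  by_contra hne
  obtain ⟨x, hx⟩ : ∃ x, x ∉ V := by
    by_contra! h
    exact hne (eq_top_iff.2 fun x _ => h x)
  obtain ⟨T, hT, hxT, -⟩ := exists_isAffineOpen_mem_and_subset (U := (⊤ : S.Opens)) (trivial : g x ∈ _)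
  obtain ⟨A, hA, hxA, hAT⟩ := exists_isAffineOpen_mem_and_subset (U := g ⁻¹ᵁ T) (show x ∈ _ from hxT)
  have hAW := hsmall A hA ⟨T, hT, hAT⟩
  let A' : U.Opens := ⟨(closure (A : Set U))ᶜ, isClosed_closure.isOpen_compl⟩ ⊓ V
  let V' : U.Opens := ⟨(closure (V : Set U))ᶜ, isClosed_closure.isOpen_compl⟩ ⊓ A
  have hA' : Compactifiable (A'.ι ≫ g) := by
    haveI : QuasiCompact (U.homOfLE (inf_le_right : A' ≤ V)) := by
      haveI : QuasiCompact (U.homOfLE (inf_le_right : A' ≤ V) ≫ V.ι) := by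
        rw [Scheme.homOfLE_ι]; infer_instance
      exact QuasiCompact.of_comp _ V.ι
    exact Compactifiable.of_openImmersion hV (U.homOfLE (inf_le_right : A' ≤ V))
      (Scheme.homOfLE_ι_assoc _ _ _)
  have d₁ : Disjoint A A' := Opens.coe_disjoint.1 (Set.disjoint_left.2
    fun y hy hy' => hy'.1 (subset_closure hy))
  have d₂ : Disjoint V V' := Opens.coe_disjoint.1 (Set.disjoint_left.2
    fun y hy hy' => hy'.1 (subset_closure hy))
  have h₁ := compactifiable_disjoint g d₁ (hAW A le_rfl) hA'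
  have h₂ := compactifiable_disjoint g d₂ hV (hAW V' inf_le_right)
  have hle₁ : A ⊔ A' ≤ A ⊔ V := sup_le le_sup_left (inf_le_right.trans le_sup_right)
  have hle₂ : V ⊔ V' ≤ A ⊔ V := sup_le le_sup_right (inf_le_right.trans le_sup_left)
  have hun : (A ⊔ A') ⊔ (V ⊔ V') = A ⊔ V :=
    le_antisymm (sup_le hle₁ hle₂) (sup_le_sup le_sup_left le_sup_left)
  have h₃ := compactifiable_union g (A := A ⊔ A') (B := V ⊔ V') ?_ h₁ h₂
  · refine hmax (A ⊔ V) (show _ ∈ {V : U.Opens | Compactifiable (V.ι ≫ g)} from hun ▸ h₃) ?_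
    exact lt_of_le_of_ne le_sup_right fun e => hx (e ▸ (le_sup_left : A ≤ A ⊔ V) hxA)
  · have hcl₁ : ((A ⊔ A' ⊔ (V ⊔ V') : U.Opens) : Set U) ⊆ closure ((A ⊔ A' : U.Opens) : Set U) := by
      rw [hun]
      rintro y (hy | hy)
      · exact subset_closure (Or.inl hy)
      · by_cases hyA : y ∈ closure (A : Set U)
        · exact closure_mono (fun z hz => Or.inl hz) hyA
        · exact subset_closure (Or.inr ⟨hyA, hy⟩)
    have hcl₂ : ((A ⊔ A' ⊔ (V ⊔ V') : U.Opens) : Set U) ⊆ closure ((V ⊔ V' : U.Opens) : Set U) := by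
      rw [hun]
      rintro y (hy | hy)
      · by_cases hyV : y ∈ closure (V : Set U)
        · exact closure_mono (fun z hz => Or.inl hz) hyV
        · exact subset_closure (Or.inr ⟨hyV, hy⟩)
      · exact subset_closure (Or.inl hy)
    have hd : ∀ C : U.Opens, ((A ⊔ A' ⊔ (V ⊔ V') : U.Opens) : Set U) ⊆ closure (C : Set U) →
        Dense (((A ⊔ A' ⊔ (V ⊔ V')).ι ⁻¹ᵁ C : ((A ⊔ A' ⊔ (V ⊔ V') : U.Opens) : Scheme.{u}).Opens) :
          Set ((A ⊔ A' ⊔ (V ⊔ V') : U.Opens) : Scheme.{u})) := fun C hC z => by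
      have h := hC z.2
      have e := (A ⊔ A' ⊔ (V ⊔ V')).ι.isOpenEmbedding.isOpenMap.preimage_closure_eq_closure_preimage
        (A ⊔ A' ⊔ (V ⊔ V')).ι.continuous (C : Set U)
      exact e ▸ h
    exact (hd _ hcl₁).inter_of_isOpen_left (hd _ hcl₂) (Opens.isOpen _)

end Groth.Agent.H22.Nagata
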