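import Groth.Agent.H22.Nagata.Side
import Groth.Agent.S0384

/-!
# Compactifications with Cartier boundary
-/

set_option autoImplicit false
set_option maxHeartbeats 1000000

noncomputable section

universe u

open CategoryTheory CategoryTheory.Limits AlgebraicGeometry TopologicalSpace

namespace Groth.Agent.H22.Nagata

open Groth.Agent.Lib

/-- A quasi-compact immersion into a scheme proper over a Noetherian base is dominated by a
compactification with Cartier boundary. -/
theorem exists_cartier_boundary {X Y S : Scheme.{u}} [IsNoetherian S] (i : X ⟶ Y) [IsImmersion i]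
    [QuasiCompact i] (p : Y ⟶ S) [IsProper p] :
    ∃ (Z : Scheme.{u}) (j : X ⟶ Z) (c : Z ⟶ Y) (E : Z.IdealSheafData),
      IsOpenImmersion j ∧ IsProper c ∧ j ≫ c = i ∧ BlowUp.IsEffCartierIdeal E ∧
      (E.support : Set Z) = (Set.range j)ᶜ := by
  haveI : CompactSpace Y := QuasiCompact.compactSpace_of_compactSpace p
  haveI : IsLocallyNoetherian Y := LocallyOfFiniteType.isLocallyNoetherian p
  haveI : IsLocallyNoetherian i.image := LocallyOfFiniteType.isLocallyNoetherian i.imageι
  haveI : CompactSpace i.image := QuasiCompact.compactSpace_of_compactSpace i.imageι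
  let D : Comp (i ≫ p) (⊤ : X.Opens) :=
    ⟨i.image, i.imageι ≫ p, inferInstance, X.topIso.hom ≫ i.toImage, inferInstance,
      by rw [Category.assoc, Scheme.Hom.toImage_imageι_assoc]; rfl,
      i.toImage.denseRange.comp X.topIso.hom.surjective.denseRange i.toImage.continuous⟩
  let O : i.image.Opens := i.toImage.opensRange
  let I := Scheme.IdealSheafData.vanishingIdeal (X := i.image) O.compl
  have hI : (I.support : Set i.image) = (Set.range i.toImage)ᶜ := by simp [I, O]
  have hIfg : Lim.IdealExt.IsFG I := fun U =>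
    (isNoetherianRing_iff_ideal_fg _).1 (IsLocallyNoetherian.component_noetherian U) _
  have hoff : ∀ y ∈ Set.range D.j, y ∉ I.support := by
    rintro _ ⟨x, rfl⟩ hx
    exact hI.le hx ⟨_, rfl⟩
  obtain ⟨D', c, hc, hcp, hjc, -⟩ := exists_lift_comp D I hIfg hoff
  haveI := hcp
  refine ⟨D'.Y, X.topIso.inv ≫ D'.j, c ≫ i.imageι, I.comap c, inferInstance, inferInstance, ?_,
    hc.1, ?_⟩
  · rw [Category.assoc, reassoc_of% hjc]
    simp [D, Scheme.Hom.toImage_imageι]
  · rw [Scheme.IdealSheafData.support_comap]
    ext z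
    have hr : Set.range (X.topIso.inv ≫ D'.j) = Set.range D'.j := by
      rw [Scheme.Hom.comp_base, TopCat.coe_comp, Set.range_comp,
        X.topIso.inv.surjective.range_eq, Set.image_univ]
    show c z ∈ (I.support : Set i.image) ↔ z ∈ (Set.range (X.topIso.inv ≫ D'.j))ᶜ
    rw [hI, hr, Set.mem_compl_iff, Set.mem_compl_iff, not_iff_not]
    constructor
    · rintro ⟨x, hx⟩
      haveI := Lib.Ideal.BlowUp.isIso_off_center hc
      have hj : c (D'.j (X.topIso.inv x)) = i.toImage x := by
        rw [← Scheme.Hom.comp_apply, hjc]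
        show (X.topIso.inv ≫ X.topIso.hom ≫ i.toImage) x = _
        rw [X.topIso.inv_hom_id_assoc]
      refine ⟨X.topIso.inv x, StrictTransform.injOn_of_isIso (φ := c) (U := I.support.compl) (x := z)
        (x' := D'.j (X.topIso.inv x)) ?_ (hj.trans hx)⟩
      show c z ∉ (I.support : Set i.image)
      rw [hI, ← hx]
      exact fun h => h ⟨x, rfl⟩
    · rintro ⟨x, rfl⟩
      refine ⟨X.topIso.hom x, ?_⟩
      rw [← Scheme.Hom.comp_apply D'.j c, hjc]
      rfl

end Groth.Agent.H22.Nagata
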