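import Groth.Agent.H22.Nagata.Config
import Groth.Agent.H22.StrictTransform.TwoBirational
import Groth.Agent.H22.StrictTransform.Section

/-!
# A common blow-up of two separated compactifications
-/

set_option autoImplicit false
set_option maxHeartbeats 1000000

noncomputable section

universe u

open CategoryTheory CategoryTheory.Limits AlgebraicGeometry TopologicalSpace

namespace Groth.Agent.H22.Nagata

open Groth.Agent.Lib

variable {U S : Scheme.{u}} {g : U ⟶ S} {V₁ V₂ W : U.Opens}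

/-- The open of `W` in a compactification. -/
abbrev Comp.core {V : U.Opens} (D : Comp g V) (h : W ≤ V) : D.Y.Opens := (U.homOfLE h ≫ D.j).opensRange

theorem dense_core {V : U.Opens} (D : Comp g V) (h : W ≤ V) (hd : Dense (W : Set U)) :
    Dense (D.core h : Set D.Y) := by
  rw [dense_iff_inter_open]
  intro O hO hne
  obtain ⟨_, hy, v, rfl⟩ := D.dense.inter_open_nonempty O hO hne
  obtain ⟨u, hu, hW⟩ := hd.inter_open_nonempty _
    (V.ι.isOpenEmbedding.isOpenMap _ (hO.preimage D.j.continuous)) ⟨_, v, hy, rfl⟩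
  obtain ⟨v', hv', rfl⟩ := hu
  refine ⟨D.j v', hv', ⟨v'.1, hW⟩, ?_⟩
  show (U.homOfLE h ≫ D.j) _ = _
  rw [Scheme.Hom.comp_apply]
  congr 1
  exact Subtype.ext (by simp)

/-- An open immersion into a blow-up covering the dense open over which nothing happens is an
isomorphism when it is proper. -/
theorem isIso_of_dense {Y Y' Z : Scheme.{u}} {c : Y' ⟶ Y} {J : Y.IdealSheafData}
    (hc : BlowUp.IsBlowUp c J) (R : Y.Opens) (hd : Dense (R : Set Y)) (hJ : ∀ y ∈ R, y ∉ J.support)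
    (i : Z ⟶ Y') [IsOpenImmersion i] [IsProper i] (hR : ∀ y ∈ R, ∃ z, c (i z) = y) : IsIso i := by
  have hsurj : Function.Surjective i := by
    intro y
    by_contra hy
    let T : Y'.Opens := ⟨(Set.range i)ᶜ, i.isClosedMap.isClosed_range.isOpen_compl⟩
    have hyT : y ∈ T := hy
    obtain ⟨y', hy'T, hy'J⟩ : ∃ y' ∈ T, c y' ∉ J.support := by
      by_contra! hall
      have h10 : (1 : Γ(Y', T)) = 0 := by
        refine Lib.Ideal.EffCartier.eq_zero_of_germ_eq_zero_off hc.1 _ fun z hz hzs => ?_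
        refine absurd ?_ hzs
        rw [Scheme.IdealSheafData.support_comap]
        exact hall z hz
      have := congrArg (Y'.presheaf.germ T y hyT) h10
      rw [map_one, map_zero] at this
      exact one_ne_zero this
    let O : Y.Opens := J.support.compl
    haveI : IsIso (c ∣_ O) := Lib.Ideal.BlowUp.isIso_off_center hc
    have hopen : IsOpen (O.ι '' ((c ∣_ O).homeomorph '' ((c ⁻¹ᵁ O).ι ⁻¹' (T : Set Y')))) :=
      O.ι.isOpenEmbedding.isOpenMap _ ((c ∣_ O).homeomorph.isOpenMap _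
        (T.2.preimage (c ⁻¹ᵁ O).ι.continuous))
    obtain ⟨x, ⟨_, ⟨z, hz, rfl⟩, rfl⟩, hxR⟩ := hd.inter_open_nonempty _ hopen
      ⟨c y', ⟨_, ⟨⟨y', hy'J⟩, hy'T, rfl⟩, by simp⟩⟩
    obtain ⟨t, ht⟩ := hR _ hxR
    have hzc : c z.1 ∈ R := by simpa using hxR
    have he : i t = z.1 := StrictTransform.injOn_of_isIso (φ := c) (U := O) (hJ _ hzc) (by simpa using ht)
    exact hz ⟨t, he⟩
  exact (isIso_iff_isOpenImmersion_and_epi_base i).2
    ⟨inferInstance, (TopCat.epi_iff_surjective _).2 hsurj⟩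

/-- Both compactifications dominated by one scheme which is a blow-up of each. -/
theorem exists_common_blowUp [IsNoetherian S] [LocallyOfFiniteType g] [QuasiCompact g]
    [IsSeparated g] (h₁ : W ≤ V₁) (h₂ : W ≤ V₂) (hW : V₁ ⊓ V₂ ≤ W) (hd : Dense (W : Set U))
    (D₁ : Comp g V₁) (D₂ : Comp g V₂) :
    ∃ (E₁ : Comp g V₁) (E₂ : Comp g V₂) (J₁ : E₁.Y.IdealSheafData) (J₂ : E₂.Y.IdealSheafData)
      (X : Scheme.{u}) (q₁ : X ⟶ E₁.Y) (q₂ : X ⟶ E₂.Y) (w : (W : Scheme.{u}) ⟶ X),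
      BlowUp.IsBlowUp q₁ J₁ ∧ Lim.IdealExt.IsFG J₁ ∧ (∀ y ∈ E₁.core h₁, y ∉ J₁.support) ∧
      BlowUp.IsBlowUp q₂ J₂ ∧ Lim.IdealExt.IsFG J₂ ∧ (∀ y ∈ E₂.core h₂, y ∉ J₂.support) ∧
      q₁ ≫ E₁.π = q₂ ≫ E₂.π ∧ w ≫ q₁ = U.homOfLE h₁ ≫ E₁.j ∧ w ≫ q₂ = U.homOfLE h₂ ≫ E₂.j ∧
      ∀ x, q₁ x ∈ E₁.bd W → q₂ x ∉ E₂.bd W := by
  obtain ⟨K, hK⟩ := exists_separated_cfg h₁ h₂ hW D₁ D₂
  haveI := compactSpace_of_noetherian K.D₁
  haveI := compactSpace_of_noetherian K.D₂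
  haveI : IsNoetherian K.P :=
    { toIsLocallyNoetherian := LocallyOfFiniteType.isLocallyNoetherian K.a₁
      toCompactSpace := QuasiCompact.compactSpace_of_compactSpace K.a₁ }
  haveI : IsNoetherian U :=
    { toIsLocallyNoetherian := LocallyOfFiniteType.isLocallyNoetherian g
      toCompactSpace := QuasiCompact.compactSpace_of_compactSpace g }
  haveI : CompactSpace (W : Scheme.{u}) := isCompact_iff_compactSpace.1 (NoetherianSpace.isCompact _)
  haveI : QuasiCompact K.w := inferInstance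
  haveI := StrictTransform.std_toImage K.w
  let p₁ := K.w.imageι ≫ K.a₁
  let p₂ := K.w.imageι ≫ K.a₂
  let d₁ := (U.homOfLE h₁ ≫ K.D₁.j).isoOpensRange.inv ≫ K.w.toImage
  let d₂ := (U.homOfLE h₂ ≫ K.D₂.j).isoOpensRange.inv ≫ K.w.toImage
  have hd₁ : d₁ ≫ p₁ = (K.D₁.core h₁).ι := by
    simp only [d₁, p₁, Category.assoc, Scheme.Hom.toImage_imageι_assoc, K.w₁]
    exact (U.homOfLE h₁ ≫ K.D₁.j).isoOpensRange_inv_comp
  have hd₂ : d₂ ≫ p₂ = (K.D₂.core h₂).ι := by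
    simp only [d₂, p₂, Category.assoc, Scheme.Hom.toImage_imageι_assoc, K.w₂]
    exact (U.homOfLE h₂ ≫ K.D₂.j).isoOpensRange_inv_comp
  haveI : IsSchemeTheoreticallyDominant d₁ := inferInstanceAs (IsSchemeTheoreticallyDominant
    ((U.homOfLE h₁ ≫ K.D₁.j).isoOpensRange.inv ≫ K.w.toImage))
  haveI : IsSchemeTheoreticallyDominant d₂ := inferInstanceAs (IsSchemeTheoreticallyDominant
    ((U.homOfLE h₂ ≫ K.D₂.j).isoOpensRange.inv ≫ K.w.toImage))
  haveI : QuasiCompact d₁ := inferInstanceAs (QuasiCompact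
    ((U.homOfLE h₁ ≫ K.D₁.j).isoOpensRange.inv ≫ K.w.toImage))
  haveI : QuasiCompact d₂ := inferInstanceAs (QuasiCompact
    ((U.homOfLE h₂ ≫ K.D₂.j).isoOpensRange.inv ≫ K.w.toImage))
  haveI : IsIso (p₁ ∣_ K.D₁.core h₁) := StrictTransform.isIso_of_section p₁ (K.D₁.core h₁) d₁ hd₁
  haveI : IsIso (p₂ ∣_ K.D₂.core h₂) := StrictTransform.isIso_of_section p₂ (K.D₂.core h₂) d₂ hd₂
  have hpre : ∀ {Y : Scheme.{u}} (p : K.w.image ⟶ Y) [IsSeparated p] (R : Y.Opens)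
      (d : (R : Scheme.{u}) ⟶ K.w.image) [IsSchemeTheoreticallyDominant d] [QuasiCompact d],
      d ≫ p = R.ι → (p ⁻¹ᵁ R : Set K.w.image) = Set.range d := by
    intro Y p _ R d _ _ hdp
    refine subset_antisymm (fun z hz => ?_) ?_
    · have := StrictTransform.eq_comp_of_section p R d hdp (p ⁻¹ᵁ R).ι _ (morphismRestrict_ι _ _).symm
      refine ⟨(p ∣_ R) ⟨z, hz⟩, ?_⟩
      rw [← Scheme.Hom.comp_apply, ← this]
      rfl
    · rintro _ ⟨r, rfl⟩
      show p (d r) ∈ R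
      rw [← Scheme.Hom.comp_apply, hdp]
      exact r.2
  have hr₁ : Set.range d₁ = Set.range K.w.toImage := by
    simp only [d₁, Scheme.Hom.comp_base, TopCat.coe_comp, Set.range_comp]
    rw [Set.range_eq_univ.2 ((U.homOfLE h₁ ≫ K.D₁.j).isoOpensRange.inv).surjective, Set.image_univ]
  have hr₂ : Set.range d₂ = Set.range K.w.toImage := by
    simp only [d₂, Scheme.Hom.comp_base, TopCat.coe_comp, Set.range_comp]
    rw [Set.range_eq_univ.2 ((U.homOfLE h₂ ≫ K.D₂.j).isoOpensRange.inv).surjective, Set.image_univ]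
  haveI : CompactSpace K.w.image := QuasiCompact.compactSpace_of_compactSpace K.w.imageι
  haveI : QuasiSeparatedSpace K.w.image := quasiSeparatedSpace_of_quasiSeparated K.w.imageι
  obtain ⟨I, J₁, J₂, Xt, Y₁, Y₂, b, c₁, c₂, i₁, i₂, hb, hI, hc₁, hJ₁, hc₂, hJ₂, hi₁, hi₂, hic₁, hic₂⟩ :=
    StrictTransform.exists_two p₁ p₂ (K.D₁.core h₁) (K.D₂.core h₂) (NoetherianSpace.isCompact _)
      (NoetherianSpace.isCompact _)
      (Opens.ext ((hpre p₁ _ d₁ hd₁).trans (hr₁.trans (hr₂.symm.trans (hpre p₂ _ d₂ hd₂).symm))))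
  haveI : IsProper b := BlowUpExists.isProper_of_isBlowUp hb hI.1
  haveI : IsProper c₁ := BlowUpExists.isProper_of_isBlowUp hc₁ hJ₁.1
  haveI : IsProper c₂ := BlowUpExists.isProper_of_isBlowUp hc₂ hJ₂.1
  obtain ⟨w, hw, -⟩ := hb.2 _ K.w.toImage
    (Lib.Ideal.EffCartier.isEffCartier_comap_of_disjoint _ fun t ht =>
      Set.disjoint_left.1 hI.2 ht ((Set.ext_iff.1 ((hpre p₁ _ d₁ hd₁).trans hr₁) _).2 ⟨t, rfl⟩))
  haveI := hi₁; haveI := hi₂
  haveI : IsProper i₁ := by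
    haveI : IsProper (i₁ ≫ c₁) := by rw [hic₁]; infer_instance
    exact IsProper.of_comp i₁ c₁
  haveI : IsProper i₂ := by
    haveI : IsProper (i₂ ≫ c₂) := by rw [hic₂]; infer_instance
    exact IsProper.of_comp i₂ c₂
  have hw₁ : w ≫ b ≫ p₁ = U.homOfLE h₁ ≫ K.D₁.j := by
    rw [reassoc_of% hw]; simp only [p₁, Scheme.Hom.toImage_imageι_assoc, K.w₁]
  have hw₂ : w ≫ b ≫ p₂ = U.homOfLE h₂ ≫ K.D₂.j := by
    rw [reassoc_of% hw]; simp only [p₂, Scheme.Hom.toImage_imageι_assoc, K.w₂]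
  haveI : IsIso i₁ := isIso_of_dense hc₁ (K.D₁.core h₁) (dense_core _ h₁ hd)
    (fun y hy h => Set.disjoint_left.1 hJ₁.2 h hy) i₁ fun y ⟨t, ht⟩ => ⟨w t, by
      rw [← Scheme.Hom.comp_apply, hic₁, ← Scheme.Hom.comp_apply, hw₁, ← ht]⟩
  haveI : IsIso i₂ := isIso_of_dense hc₂ (K.D₂.core h₂) (dense_core _ h₂ hd)
    (fun y hy h => Set.disjoint_left.1 hJ₂.2 h hy) i₂ fun y ⟨t, ht⟩ => ⟨w t, by
      rw [← Scheme.Hom.comp_apply, hic₂, ← Scheme.Hom.comp_apply, hw₂, ← ht]⟩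
  refine ⟨K.D₁, K.D₂, J₁, J₂, Xt, b ≫ p₁, b ≫ p₂, w, hic₁ ▸ StrictTransform.isBlowUp_iso_comp hc₁ i₁,
    hJ₁.1, fun y hy h => Set.disjoint_left.1 hJ₁.2 h hy,
    hic₂ ▸ StrictTransform.isBlowUp_iso_comp hc₂ i₂, hJ₂.1,
    fun y hy h => Set.disjoint_left.1 hJ₂.2 h hy, ?_, hw₁, hw₂, fun x hx₁ hx₂ => ?_⟩
  · simp only [p₁, p₂, Category.assoc, K.comm]
  · refine hK (K.w.imageι (b x)) ?_ ?_ ?_
    · show K.w.imageι (b x) ∈ closure (Set.range K.w)
      rw [← Scheme.Hom.support_ker]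
      exact K.w.ker.range_subschemeι.le ⟨b x, rfl⟩
    · simpa [p₁, Scheme.Hom.comp_apply] using hx₁
    · simpa [p₂, Scheme.Hom.comp_apply] using hx₂

end Groth.Agent.H22.Nagata
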