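import Groth.Agent.H22.Nagata.Separate

/-!
# Two compactifications with separated boundaries
-/

set_option autoImplicit false
set_option maxHeartbeats 1000000

noncomputable section

universe u

open CategoryTheory CategoryTheory.Limits AlgebraicGeometry TopologicalSpace

namespace Groth.Agent.H22.Nagata

open Groth.Agent.Lib

variable {U S : Scheme.{u}} {g : U ⟶ S} {V₁ V₂ : U.Opens} {W : U.Opens} (h₁ : W ≤ V₁) (h₂ : W ≤ V₂)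

/-- Two compactifications and a proper scheme over both receiving the common open. -/
structure Cfg (g : U ⟶ S) {V₁ V₂ W : U.Opens} (h₁ : W ≤ V₁) (h₂ : W ≤ V₂) where
  D₁ : Comp g V₁
  D₂ : Comp g V₂
  P : Scheme.{u}
  a₁ : P ⟶ D₁.Y
  a₂ : P ⟶ D₂.Y
  p₁ : IsProper a₁
  p₂ : IsProper a₂
  comm : a₁ ≫ D₁.π = a₂ ≫ D₂.π
  w : (W : Scheme.{u}) ⟶ P
  w₁ : w ≫ a₁ = U.homOfLE h₁ ≫ D₁.j
  w₂ : w ≫ a₂ = U.homOfLE h₂ ≫ D₂.j

attribute [instance] Cfg.p₁ Cfg.p₂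

variable {h₁ h₂}

/-- The closure of the common open. -/
def Cfg.B (K : Cfg g h₁ h₂) : Set K.P := closure (Set.range K.w)

/-- Separatedness of `U`: no point of the closure lies over both charts except in `W`. -/
def Cfg.Sep (K : Cfg g h₁ h₂) : Prop :=
  ∀ x ∈ K.B, K.a₁ x ∈ K.D₁.j '' {v | v.1 ∉ W} → K.a₂ x ∉ Set.range K.D₂.j

/-- The same with the roles exchanged. -/
def Cfg.swap (K : Cfg g h₁ h₂) : Cfg g h₂ h₁ :=
  ⟨K.D₂, K.D₁, K.P, K.a₂, K.a₁, K.p₂, K.p₁, K.comm.symm, K.w, K.w₂, K.w₁⟩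

/-- A modification of configurations. -/
structure Cfg.Hom (K' K : Cfg g h₁ h₂) where
  f : K'.P ⟶ K.P
  c₁ : K'.D₁.Y ⟶ K.D₁.Y
  c₂ : K'.D₂.Y ⟶ K.D₂.Y
  hc₁ : K'.D₁.j ≫ c₁ = K.D₁.j
  hc₂ : K'.D₂.j ≫ c₂ = K.D₂.j
  ha₁ : K'.a₁ ≫ c₁ = f ≫ K.a₁
  ha₂ : K'.a₂ ≫ c₂ = f ≫ K.a₂
  hB : K'.B ⊆ f ⁻¹' K.B

theorem Cfg.Hom.map_bd₁ {K' K : Cfg g h₁ h₂} (φ : K'.Hom K) {y : K'.D₁.Y} (hy : y ∈ K'.D₁.bd W) :
    φ.c₁ y ∈ K.D₁.bd W := by
  refine map_mem_closure (f := fun y => φ.c₁ y) φ.c₁.continuous hy ?_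
  rintro _ ⟨v, hv, rfl⟩
  exact ⟨v, hv, by rw [← φ.hc₁, Scheme.Hom.comp_apply]⟩

theorem Cfg.Hom.map_range₂ {K' K : Cfg g h₁ h₂} (φ : K'.Hom K) {y : K'.D₂.Y}
    (hy : y ∈ Set.range K'.D₂.j) : φ.c₂ y ∈ Set.range K.D₂.j := by
  obtain ⟨v, rfl⟩ := hy
  exact ⟨v, by rw [← φ.hc₂, Scheme.Hom.comp_apply]⟩

/-- The separation achieved by `Sep`, strengthened to the closure of the boundary. -/
def Cfg.Sep' (K : Cfg g h₁ h₂) : Prop :=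
  ∀ x ∈ K.B, K.a₁ x ∈ K.D₁.bd W → K.a₂ x ∉ Set.range K.D₂.j

theorem Cfg.Hom.sep' {K' K : Cfg g h₁ h₂} (φ : K'.Hom K) (h : K.Sep') : K'.Sep' := by
  intro x hx hx₁ hx₂
  refine h (φ.f x) (φ.hB hx) ?_ ?_
  · rw [← Scheme.Hom.comp_apply, ← φ.ha₁, Scheme.Hom.comp_apply]
    exact φ.map_bd₁ hx₁
  · rw [← Scheme.Hom.comp_apply, ← φ.ha₂, Scheme.Hom.comp_apply]
    exact φ.map_range₂ hx₂

/-- One admissible blow-up of the first compactification. -/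
theorem Cfg.exists_blow [IsNoetherian S] (K : Cfg g h₁ h₂) (Z : Set K.P) (hZ : IsClosed Z)
    (hZa : ∀ x ∈ K.B, K.a₁ x ∈ K.D₁.j '' {v | v.1 ∉ W} → x ∈ Z) :
    ∃ (K' : Cfg g h₁ h₂) (φ : K'.Hom K), ∀ x ∈ K'.B, K'.a₁ x ∈ K'.D₁.bd W → φ.f x ∈ Z := by
  obtain ⟨D', c, P', f, a', w', hcp, hj', hcπ, hran, hf, ha', hac, hw', hB, hsep⟩ :=
    exists_step K.D₁ W K.a₁ K.w (fun t => by
      rw [← Scheme.Hom.comp_apply, K.w₁, Scheme.Hom.comp_apply]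
      exact ⟨_, rfl⟩) Z hZ hZa
  haveI := hcp
  have hw₁' : w' ≫ a' = U.homOfLE h₁ ≫ D'.j := by
    haveI : IsOpenImmersion (D'.j ≫ c) := by rw [hj']; infer_instance
    -- both lift the same map along `c`, which is injective over the chart
    have hr : Set.range (w' ≫ a') ⊆ Set.range D'.j := by
      rintro _ ⟨t, rfl⟩
      refine hran ?_
      show c ((w' ≫ a') t) ∈ Set.range K.D₁.j
      rw [← Scheme.Hom.comp_apply, Category.assoc, hac, reassoc_of% hw', K.w₁, Scheme.Hom.comp_apply]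
      exact ⟨_, rfl⟩
    rw [← IsOpenImmersion.lift_fac D'.j (w' ≫ a') hr]
    congr 1
    rw [← cancel_mono (D'.j ≫ c), IsOpenImmersion.lift_fac_assoc, Category.assoc, hac,
      reassoc_of% hw', K.w₁, hj']
  refine ⟨⟨D', K.D₂, P', a', f ≫ K.a₂, ha', inferInstance, ?_, w', hw₁', ?_⟩,
    ⟨f, c, 𝟙 _, hj', Category.comp_id _, hac, Category.comp_id _, hB⟩, fun x hx hxa => hsep ⟨hx, hxa⟩⟩
  · rw [← hcπ, reassoc_of% hac, Category.assoc, K.comm]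
  · rw [reassoc_of% hw', K.w₂]

theorem sep_init [IsSeparated g] (hW : V₁ ⊓ V₂ ≤ W) (D₁ : Comp g V₁) (D₂ : Comp g V₂)
    (w : (W : Scheme.{u}) ⟶ pullback D₁.π D₂.π)
    (w₁ : w ≫ pullback.fst _ _ = U.homOfLE h₁ ≫ D₁.j) (w₂ : w ≫ pullback.snd _ _ = U.homOfLE h₂ ≫ D₂.j)
    (x : ↥(pullback D₁.π D₂.π)) (hx : x ∈ closure (Set.range w))
    (hx₁ : pullback.fst D₁.π D₂.π x ∈ D₁.j '' {v | v.1 ∉ W}) :
    pullback.snd D₁.π D₂.π x ∉ Set.range D₂.j := by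
  intro hx₂
  obtain ⟨v, hv, hvx⟩ := hx₁
  let M : pullback (V₁.ι ≫ g) (V₂.ι ≫ g) ⟶ pullback D₁.π D₂.π :=
    pullback.map _ _ _ _ D₁.j D₂.j (𝟙 S) (by simp [D₁.fac]) (by simp [D₂.fac])
  haveI : IsOpenImmersion M := by
    exact MorphismProperty.pullbackMap (P := @IsOpenImmersion) inferInstance inferInstance
      D₁.fac.symm D₂.fac.symm
  let Δ : (W : Scheme.{u}) ⟶ pullback (V₁.ι ≫ g) (V₂.ι ≫ g) :=
    pullback.lift (U.homOfLE h₁) (U.homOfLE h₂) (by simp only [Scheme.homOfLE_ι_assoc])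
  have hΔ : Δ ≫ M = w := by
    apply pullback.hom_ext <;>
      simp only [Δ, M, pullback.map, Category.assoc, pullback.lift_fst, pullback.lift_snd,
        pullback.lift_fst_assoc, pullback.lift_snd_assoc, w₁, w₂]
  obtain ⟨z, hz⟩ : x ∈ Set.range M := by
    simp only [M, Scheme.Pullback.range_map]
    exact ⟨⟨v, hvx⟩, hx₂⟩
  have hzcl : z ∈ closure (Set.range Δ) := by
    rw [mem_closure_iff]
    intro O hO hzO
    obtain ⟨_, ⟨y, hy, rfl⟩, t, ht⟩ := mem_closure_iff.1 hx (M '' O)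
      (M.isOpenEmbedding.isOpenMap _ hO) ⟨z, hzO, hz⟩
    refine ⟨y, hy, t, M.isOpenEmbedding.injective ?_⟩
    rw [← Scheme.Hom.comp_apply, hΔ, ht]
  let K := pullback.mapDesc V₁.ι V₂.ι g
  let e : (W : Scheme.{u}) ⟶ pullback V₁.ι V₂.ι :=
    pullback.lift (U.homOfLE h₁) (U.homOfLE h₂) (by simp only [Scheme.homOfLE_ι])
  have heK : e ≫ K = Δ := by
    apply pullback.hom_ext <;>
      simp only [e, K, Δ, pullback.mapDesc, pullback.map, Category.assoc, pullback.lift_fst,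
        pullback.lift_snd, pullback.lift_fst_assoc, pullback.lift_snd_assoc, Category.comp_id]
  haveI : IsClosedImmersion K := inferInstance
  obtain ⟨u, hu⟩ : z ∈ Set.range K := by
    refine closure_minimal ?_ K.isClosedEmbedding.isClosed_range hzcl
    rintro _ ⟨t, rfl⟩
    exact ⟨e t, by rw [← Scheme.Hom.comp_apply, heK]⟩
  have hfst : pullback.fst V₁.ι V₂.ι u = v := by
    refine D₁.j.isOpenEmbedding.injective ?_
    rw [hvx, ← hz, ← hu, ← Scheme.Hom.comp_apply, ← Scheme.Hom.comp_apply, ← Scheme.Hom.comp_apply]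
    simp only [K, M, pullback.mapDesc, pullback.map, Category.assoc, pullback.lift_fst,
      pullback.lift_fst_assoc, Category.id_comp, Category.comp_id]
  refine hv (hW ⟨v.2, ?_⟩)
  rw [← hfst]
  have := congrArg (fun m : pullback V₁.ι V₂.ι ⟶ U => m u) pullback.condition
  simp only [Scheme.Hom.comp_apply] at this
  show V₁.ι (pullback.fst V₁.ι V₂.ι u) ∈ V₂
  rw [this]
  exact (pullback.snd V₁.ι V₂.ι u).2

/-- Separatedness in any configuration. -/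
theorem Cfg.sep [IsSeparated g] (hW : V₁ ⊓ V₂ ≤ W) (K : Cfg g h₁ h₂) : K.Sep := by
  intro x hx hx₁
  let π : K.P ⟶ pullback K.D₁.π K.D₂.π := pullback.lift K.a₁ K.a₂ K.comm
  have e₁ : π ≫ pullback.fst _ _ = K.a₁ := pullback.lift_fst _ _ _
  have e₂ : π ≫ pullback.snd _ _ = K.a₂ := pullback.lift_snd _ _ _
  rw [← e₂, Scheme.Hom.comp_apply]
  refine sep_init hW K.D₁ K.D₂ (K.w ≫ π) (by rw [Category.assoc, e₁, K.w₁])
    (by rw [Category.assoc, e₂, K.w₂]) (π x) ?_ ?_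
  · refine map_mem_closure (f := fun y => π y) π.continuous hx ?_
    rintro _ ⟨t, rfl⟩
    exact ⟨t, Scheme.Hom.comp_apply K.w π t⟩
  · rw [← Scheme.Hom.comp_apply, e₁]; exact hx₁

theorem Cfg.Hom.comp_sep' {K' K : Cfg g h₁ h₂} (φ : K'.Hom K) (Z : Set K.P)
    (hφ : ∀ x ∈ K'.B, K'.a₁ x ∈ K'.D₁.bd W → φ.f x ∈ Z)
    (hZ : ∀ x ∈ Z, K.a₂ x ∉ Set.range K.D₂.j) : K'.Sep' := by
  intro x hx hx₁ hx₂
  refine hZ (φ.f x) (hφ x hx hx₁) ?_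
  rw [← Scheme.Hom.comp_apply, ← φ.ha₂, Scheme.Hom.comp_apply]
  exact φ.map_range₂ hx₂

/-- Swapping a modification. -/
def Cfg.Hom.swap {K' K : Cfg g h₁ h₂} (φ : K'.Hom K) : K'.swap.Hom K.swap :=
  ⟨φ.f, φ.c₂, φ.c₁, φ.hc₂, φ.hc₁, φ.ha₂, φ.ha₁, φ.hB⟩

/-- Blowing up the common scheme. -/
theorem Cfg.exists_blowP [IsNoetherian S] (K : Cfg g h₁ h₂) (I : K.P.IdealSheafData)
    (hI : Lim.IdealExt.IsFG I) {P' : Scheme.{u}} (b : P' ⟶ K.P) (hb : BlowUp.IsBlowUp b I)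
    (hd : ∀ t, K.w t ∉ I.support) :
    ∃ (K' : Cfg g h₁ h₂) (φ : K'.Hom K) (e : K'.P ⟶ P'), e ≫ b = φ.f := by
  haveI : IsProper b := BlowUpExists.isProper_of_isBlowUp hb hI
  obtain ⟨w', hw', -⟩ := hb.2 _ K.w (Lib.Ideal.EffCartier.isEffCartier_comap_of_disjoint _ hd)
  refine ⟨⟨K.D₁, K.D₂, P', b ≫ K.a₁, b ≫ K.a₂, inferInstance, inferInstance,
    by simp only [Category.assoc, K.comm], w', by rw [reassoc_of% hw', K.w₁],
    by rw [reassoc_of% hw', K.w₂]⟩,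
    ⟨b, 𝟙 _, 𝟙 _, Category.comp_id _, Category.comp_id _, Category.comp_id _, Category.comp_id _, ?_⟩,
    𝟙 _, Category.id_comp _⟩
  intro z hz
  refine map_mem_closure (f := fun y => b y) b.continuous hz ?_
  rintro _ ⟨t, rfl⟩
  exact ⟨t, by show K.w t = b (w' t); rw [← hw', Scheme.Hom.comp_apply]⟩

/-- The configuration with disjoint boundaries. -/
theorem exists_separated_cfg [IsNoetherian S] [IsSeparated g] (hW₁ : W ≤ V₁) (hW₂ : W ≤ V₂)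
    (hW : V₁ ⊓ V₂ ≤ W) (D₁ : Comp g V₁) (D₂ : Comp g V₂) :
    ∃ K : Cfg g hW₁ hW₂, ∀ x ∈ K.B, K.a₁ x ∈ K.D₁.bd W → K.a₂ x ∉ K.D₂.bd W := by
  have hW' : V₂ ⊓ V₁ ≤ W := by rw [inf_comm]; exact hW
  let K₀ : Cfg g hW₁ hW₂ := ⟨D₁, D₂, pullback D₁.π D₂.π, pullback.fst _ _, pullback.snd _ _,
    inferInstance, inferInstance, pullback.condition,
    pullback.lift (U.homOfLE hW₁ ≫ D₁.j) (U.homOfLE hW₂ ≫ D₂.j)
      (by simp only [Category.assoc, D₁.fac, D₂.fac, Scheme.homOfLE_ι_assoc]),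
    pullback.lift_fst _ _ _, pullback.lift_snd _ _ _⟩
  -- each boundary leaves the other chart
  obtain ⟨K₁, φ₁, hφ₁⟩ := K₀.exists_blow (K₀.a₂ ⁻¹' Set.range K₀.D₂.j)ᶜ
    ((K₀.D₂.j.isOpenEmbedding.isOpen_range.preimage K₀.a₂.continuous).isClosed_compl) (K₀.sep hW)
  have hA₁ : K₁.Sep' := φ₁.comp_sep' _ hφ₁ fun x hx => hx
  obtain ⟨L₂, ψ₂, hψ₂⟩ := K₁.swap.exists_blow (K₁.swap.a₂ ⁻¹' Set.range K₁.swap.D₂.j)ᶜ
    ((K₁.swap.D₂.j.isOpenEmbedding.isOpen_range.preimage K₁.swap.a₂.continuous).isClosed_compl)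
    (K₁.swap.sep hW')
  let K₂ := L₂.swap
  have φ₂ : K₂.Hom K₁ := ψ₂.swap
  have hA₂ : K₂.Sep' := φ₂.sep' hA₁
  have hB₂ : K₂.swap.Sep' := ψ₂.comp_sep' _ hψ₂ fun x hx => hx
  -- separate the closures of the boundaries inside the two charts
  obtain ⟨K₃, φ₃, hd₃⟩ : ∃ (K₃ : Cfg g hW₁ hW₂) (φ₃ : K₃.Hom K₂),
      Disjoint (closure (K₃.B ∩ K₃.a₁ ⁻¹' (K₃.D₁.j '' {v | v.1 ∉ W})))
        (closure (K₃.B ∩ K₃.a₂ ⁻¹' (K₃.D₂.j '' {v | v.1 ∉ W}))) := by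
    haveI := compactSpace_of_noetherian K₂.D₁
    haveI : IsNoetherian K₂.P :=
      { toIsLocallyNoetherian := LocallyOfFiniteType.isLocallyNoetherian K₂.a₁
        toCompactSpace := QuasiCompact.compactSpace_of_compactSpace K₂.a₁ }
    let O : K₂.P.Opens := K₂.a₁ ⁻¹ᵁ K₂.D₁.j.opensRange ⊔ K₂.a₂ ⁻¹ᵁ K₂.D₂.j.opensRange
    let T₁ : Set K₂.P := K₂.B ∩ K₂.a₁ ⁻¹' (K₂.D₁.j '' {v | v.1 ∉ W})
    let T₂ : Set K₂.P := K₂.B ∩ K₂.a₂ ⁻¹' (K₂.D₂.j '' {v | v.1 ∉ W})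
    have hT₁ : T₁ ⊆ (O : Set K₂.P) := fun x hx => Or.inl ((Set.image_subset_range _ _) hx.2)
    have hT₂ : T₂ ⊆ (O : Set K₂.P) := fun x hx => Or.inr ((Set.image_subset_range _ _) hx.2)
    have hcl : ∀ (T F : Set K₂.P), IsClosed F → T = F ∩ (O : Set K₂.P) →
        IsClosed (Subtype.val ⁻¹' T : Set O) := fun T F hF hT => by
      subst hT
      have : (Subtype.val ⁻¹' (F ∩ (O : Set K₂.P)) : Set O) = Subtype.val ⁻¹' F :=
        Set.ext fun x => ⟨fun h => h.1, fun h => ⟨h, x.2⟩⟩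
      rw [this]
      exact hF.preimage continuous_subtype_val
    have hF₁ : T₁ = (K₂.B ∩ K₂.a₁ ⁻¹' K₂.D₁.bd W) ∩ (O : Set K₂.P) := by
      refine subset_antisymm (fun x hx => ⟨⟨hx.1, subset_closure hx.2⟩, hT₁ hx⟩) ?_
      rintro x ⟨⟨hxB, hxb⟩, h | h⟩
      · exact ⟨hxB, K₂.D₁.bd_inter_range W ⟨hxb, h⟩⟩
      · exact absurd h (hA₂ x hxB hxb)
    have hF₂ : T₂ = (K₂.B ∩ K₂.a₂ ⁻¹' K₂.D₂.bd W) ∩ (O : Set K₂.P) := by
      refine subset_antisymm (fun x hx => ⟨⟨hx.1, subset_closure hx.2⟩, hT₂ hx⟩) ?_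
      rintro x ⟨⟨hxB, hxb⟩, h | h⟩
      · exact absurd h (hB₂ x hxB hxb)
      · exact ⟨hxB, K₂.D₂.bd_inter_range W ⟨hxb, h⟩⟩
    have hcB₁ : IsClosed (K₂.B ∩ K₂.a₁ ⁻¹' K₂.D₁.bd W) :=
      isClosed_closure.inter (isClosed_closure.preimage K₂.a₁.continuous)
    have hcB₂ : IsClosed (K₂.B ∩ K₂.a₂ ⁻¹' K₂.D₂.bd W) :=
      isClosed_closure.inter (isClosed_closure.preimage K₂.a₂.continuous)
    have hcons : ∀ T : Set O, IsClosed T → Topology.IsConstructible T := fun T hT =>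
      (IsCompact.isConstructible (O.ι.isOpenEmbedding.isInducing.isCompact_iff.2
        (NoetherianSpace.isCompact _)) hT.isOpen_compl).of_compl
    obtain ⟨I, P', b, hb, hI, hdis⟩ := Groth.Agent.S1279.result O (NoetherianSpace.isCompact _)
      (Subtype.val ⁻¹' T₁) (Subtype.val ⁻¹' T₂) (hcl _ _ hcB₁ hF₁) (hcl _ _ hcB₂ hF₂)
      (hcons _ (hcl _ _ hcB₁ hF₁)) (hcons _ (hcl _ _ hcB₂ hF₂))
      (Set.disjoint_left.2 fun x hx₁ hx₂ =>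
        K₂.sep hW x.1 hx₁.1 hx₁.2 (Set.image_subset_range _ _ hx₂.2))
    obtain ⟨K₃, φ, e, he⟩ := K₂.exists_blowP I hI.1 b hb fun t h =>
      Set.disjoint_left.1 hI.2 h (Or.inl (by
        show K₂.a₁ (K₂.w t) ∈ Set.range K₂.D₁.j
        rw [← Scheme.Hom.comp_apply, K₂.w₁, Scheme.Hom.comp_apply]
        exact ⟨_, rfl⟩))
    refine ⟨K₃, φ, Set.disjoint_left.2 fun x hx₁ hx₂ => Set.disjoint_left.1 hdis
      (?_ : e x ∈ _) ?_⟩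
    · refine map_mem_closure (f := fun z => e z) e.continuous hx₁ ?_
      rintro z ⟨hzB, v, hv, hvz⟩
      have hm : φ.f z ∈ T₁ := by
        refine ⟨φ.hB hzB, v, hv, ?_⟩
        rw [← Scheme.Hom.comp_apply φ.f, ← φ.ha₁, Scheme.Hom.comp_apply, ← hvz, ← φ.hc₁,
          Scheme.Hom.comp_apply]
      refine ⟨⟨_, hT₁ hm⟩, hm, ?_⟩
      show φ.f z = b (e z)
      rw [← Scheme.Hom.comp_apply, he]
    · refine map_mem_closure (f := fun z => e z) e.continuous hx₂ ?_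
      rintro z ⟨hzB, v, hv, hvz⟩
      have hm : φ.f z ∈ T₂ := by
        refine ⟨φ.hB hzB, v, hv, ?_⟩
        rw [← Scheme.Hom.comp_apply φ.f, ← φ.ha₂, Scheme.Hom.comp_apply, ← hvz, ← φ.hc₂,
          Scheme.Hom.comp_apply]
      refine ⟨⟨_, hT₂ hm⟩, hm, ?_⟩
      show φ.f z = b (e z)
      rw [← Scheme.Hom.comp_apply, he]
  -- push the boundaries into those closures
  let Z₁ := closure (K₃.B ∩ K₃.a₁ ⁻¹' (K₃.D₁.j '' {v | v.1 ∉ W}))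
  let Z₂ := closure (K₃.B ∩ K₃.a₂ ⁻¹' (K₃.D₂.j '' {v | v.1 ∉ W}))
  obtain ⟨K₄, φ₄, hφ₄⟩ := K₃.exists_blow Z₁ isClosed_closure
    fun x hx hxa => subset_closure ⟨hx, hxa⟩
  obtain ⟨L₅, ψ₅, hψ₅⟩ := K₄.swap.exists_blow (φ₄.f ⁻¹' Z₂)
    (isClosed_closure.preimage φ₄.f.continuous) fun x hx hxa => by
      obtain ⟨v, hv, hvx⟩ := hxa
      refine subset_closure ⟨φ₄.hB hx, v, hv, ?_⟩
      rw [← Scheme.Hom.comp_apply φ₄.f, ← φ₄.ha₂, Scheme.Hom.comp_apply]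
      have h1 : φ₄.c₂ (K₄.D₂.j v) = K₃.D₂.j v := by rw [← Scheme.Hom.comp_apply, φ₄.hc₂]
      exact h1.symm.trans (congrArg (fun y => φ₄.c₂ y) hvx)
  refine ⟨L₅.swap, fun x hx hx₁ hx₂ => Set.disjoint_left.1 hd₃ (?_ : φ₄.f (ψ₅.f x) ∈ _) ?_⟩
  · refine hφ₄ _ (ψ₅.hB hx) ?_
    show K₄.swap.a₂ (ψ₅.f x) ∈ K₄.D₁.bd W
    rw [← Scheme.Hom.comp_apply, ← ψ₅.ha₂, Scheme.Hom.comp_apply]
    exact ψ₅.swap.map_bd₁ hx₁
  · exact hψ₅ x hx hx₂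

end Groth.Agent.H22.Nagata
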