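import Groth.Agent.H22.StrictTransform.Common
import Groth.Agent.H22.BlowUpSeparate
import Groth.Agent.Lib.Ideal.BlowUp
import Groth.Agent.H22.BlowUpAmple
import Groth.Agent.Lib.BlowUpExists.Proper
import Groth.Agent.S1279
import Mathlib.AlgebraicGeometry.Noetherian

/-!
# Separating the boundaries of two compactifications
-/

set_option autoImplicit false
set_option maxHeartbeats 1000000

noncomputable section

universe u

open CategoryTheory CategoryTheory.Limits AlgebraicGeometry TopologicalSpace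

namespace Groth.Agent.H22.Nagata

open Groth.Agent.Lib

variable {U S : Scheme.{u}}

/-- A compactification of the open `V` with dense image. -/
structure Comp (g : U ⟶ S) (V : U.Opens) where
  Y : Scheme.{u}
  π : Y ⟶ S
  proper : IsProper π
  j : (V : Scheme.{u}) ⟶ Y
  isOpen : IsOpenImmersion j
  fac : j ≫ π = V.ι ≫ g
  dense : DenseRange j

attribute [instance] Comp.proper Comp.isOpen

/-- The closure of the part of `V` outside `W`. -/
def Comp.bd {g : U ⟶ S} {V : U.Opens} (D : Comp g V) (W : U.Opens) : Set D.Y :=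
  closure (D.j '' {v | v.1 ∉ W})

theorem Comp.bd_inter_range {g : U ⟶ S} {V : U.Opens} (D : Comp g V) (W : U.Opens) :
    D.bd W ∩ Set.range D.j ⊆ D.j '' {v | v.1 ∉ W} := by
  rintro _ ⟨hv, v, rfl⟩
  refine ⟨v, fun hvW => ?_, rfl⟩
  obtain ⟨_, ⟨v', hv', rfl⟩, v'', hv'', he⟩ :=
    mem_closure_iff.1 hv (D.j '' {v | v.1 ∈ W})
      (D.j.isOpenEmbedding.isOpenMap _ (W.2.preimage V.ι.continuous)) ⟨v, hvW, rfl⟩
  obtain rfl := D.j.isOpenEmbedding.injective he
  exact hv'' hv'

theorem compactSpace_of_noetherian [IsNoetherian S] {g : U ⟶ S} {V : U.Opens} (D : Comp g V) :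
    IsNoetherian D.Y :=
  { toIsLocallyNoetherian := LocallyOfFiniteType.isLocallyNoetherian D.π
    toCompactSpace := QuasiCompact.compactSpace_of_compactSpace D.π }

/-- An admissible blow-up of a compactification making a boundary avoid what it may. -/
theorem exists_step [IsNoetherian S] {g : U ⟶ S} {V : U.Opens} (D : Comp g V) (W : U.Opens)
    {T P : Scheme.{u}} (a : P ⟶ D.Y) [IsProper a] (w : T ⟶ P)
    (hw : ∀ t, a (w t) ∈ Set.range D.j) (Z : Set P) (hZ : IsClosed Z)
    (hZa : ∀ x ∈ closure (Set.range w), a x ∈ D.j '' {v | v.1 ∉ W} → x ∈ Z) :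
    ∃ (D' : Comp g V) (c : D'.Y ⟶ D.Y) (P' : Scheme.{u}) (f : P' ⟶ P) (a' : P' ⟶ D'.Y) (w' : T ⟶ P'),
      IsProper c ∧ D'.j ≫ c = D.j ∧ c ≫ D.π = D'.π ∧ c ⁻¹' Set.range D.j ⊆ Set.range D'.j ∧
      IsProper f ∧ IsProper a' ∧ a' ≫ c = f ≫ a ∧ w' ≫ f = w ∧
      closure (Set.range w') ⊆ f ⁻¹' closure (Set.range w) ∧
      closure (Set.range w') ∩ a' ⁻¹' D'.bd W ⊆ f ⁻¹' Z := by
  haveI := compactSpace_of_noetherian D
  haveI : IsNoetherian P :=
    { toIsLocallyNoetherian := LocallyOfFiniteType.isLocallyNoetherian a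
      toCompactSpace := QuasiCompact.compactSpace_of_compactSpace a }
  -- restrict to the closure of `w`
  let C : Closeds P := ⟨closure (Set.range w), isClosed_closure⟩
  let K := Scheme.IdealSheafData.vanishingIdeal C
  let ι := K.subschemeι
  have hι : Set.range ι = closure (Set.range w) := by
    rw [K.range_subschemeι, Scheme.IdealSheafData.coe_support_vanishingIdeal]
    rfl
  haveI : IsNoetherian K.subscheme :=
    { toIsLocallyNoetherian := LocallyOfFiniteType.isLocallyNoetherian ι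
      toCompactSpace := QuasiCompact.compactSpace_of_compactSpace ι }
  let q : K.subscheme ⟶ D.Y := ι ≫ a
  obtain ⟨E, hE, hEs, hEc⟩ := BlowUpSeparate.exists_ideal q D.j.opensRange
    (NoetherianSpace.isCompact _) (q ⁻¹ᵁ D.j.opensRange) le_rfl (D.bd W) isClosed_closure
    (NoetherianSpace.isCompact _) (ι ⁻¹' Z) (hZ.preimage ι.continuous) (NoetherianSpace.isCompact _)
    (fun x hx => hZa (ι x) (hι.le ⟨x, rfl⟩) (D.bd_inter_range W hx))
  let c := BlowUpExists.blProj E
  have hc : BlowUp.IsBlowUp c E := BlowUpAmple.isBlowUp_blProj E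
  haveI : IsProper c := BlowUpExists.isProper_blProj hE
  have hoff : ∀ y ∈ Set.range D.j, y ∉ E.support := fun y hy h => (hEs h).2 hy
  have hcart : BlowUp.IsEffCartierIdeal (E.comap D.j) :=
    Lib.Ideal.EffCartier.isEffCartier_comap_of_disjoint _ fun v => hoff _ ⟨v, rfl⟩
  obtain ⟨j', hj', -⟩ := hc.2 _ D.j hcart
  haveI := Lib.Ideal.BlowUp.isIso_off_center hc
  have hinj : ∀ y y', c y ∈ Set.range D.j → c y' = c y → y' = y := fun y y' hy he =>
    StrictTransform.injOn_of_isIso (U := E.support.compl) (hoff _ hy) he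
  have hran : c ⁻¹' Set.range D.j ⊆ Set.range j' := by
    rintro y ⟨v, hv⟩
    refine ⟨v, hinj y (j' v) ⟨v, hv⟩ ?_⟩
    rw [← Scheme.Hom.comp_apply, hj', hv]
  haveI : IsOpenImmersion (j' ≫ c) := by rw [hj']; infer_instance
  have hjr : Set.range j' ⊆ Set.range (c ⁻¹ᵁ E.support.compl).ι := by
    rintro _ ⟨v, rfl⟩
    rw [Scheme.Opens.range_ι]
    show c (j' v) ∉ E.support
    rw [← Scheme.Hom.comp_apply, hj']
    exact hoff _ ⟨v, rfl⟩
  haveI : IsOpenImmersion j' := by
    let k := IsOpenImmersion.lift (c ⁻¹ᵁ E.support.compl).ι j' hjr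
    have hk : k ≫ (c ⁻¹ᵁ E.support.compl).ι = j' := IsOpenImmersion.lift_fac _ _ _
    haveI : IsOpenImmersion (k ≫ (c ∣_ E.support.compl) ≫ (Scheme.Opens.ι E.support.compl)) := by
      rw [morphismRestrict_ι, reassoc_of% hk]
      infer_instance
    haveI : IsOpenImmersion k := IsOpenImmersion.of_comp k ((c ∣_ E.support.compl) ≫ (Scheme.Opens.ι E.support.compl))
    rw [← hk]; infer_instance
  have hdense : DenseRange j' := by
    rw [DenseRange, dense_iff_inter_open]
    intro O hO hne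
    obtain ⟨y, hyO⟩ := hne
    obtain ⟨y', hy'O, hy'E⟩ : ∃ y' ∈ O, c y' ∉ E.support := by
      by_contra! hall
      have h10 : (1 : Γ(BlowUpExists.bl E, (⟨O, hO⟩ : (BlowUpExists.bl E).Opens))) = 0 := by
        refine Lib.Ideal.EffCartier.eq_zero_of_germ_eq_zero_off hc.1 _ fun z hz hzs => ?_
        refine absurd ?_ hzs
        rw [Scheme.IdealSheafData.support_comap]
        exact hall z hz
      have := congrArg ((BlowUpExists.bl E).presheaf.germ ⟨O, hO⟩ y hyO) h10
      rw [map_one, map_zero] at this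
      exact one_ne_zero this
    have hopen : IsOpen ((Scheme.Opens.ι E.support.compl) '' ((c ∣_ E.support.compl).homeomorph ''
        ((c ⁻¹ᵁ E.support.compl).ι ⁻¹' O))) :=
      (Scheme.Opens.ι E.support.compl).isOpenEmbedding.isOpenMap _ ((c ∣_ E.support.compl).homeomorph.isOpenMap _
        (hO.preimage (c ⁻¹ᵁ E.support.compl).ι.continuous))
    obtain ⟨x, ⟨_, ⟨z, hz, rfl⟩, rfl⟩, hxj⟩ := D.dense.inter_open_nonempty _ hopen
      ⟨c y', ⟨_, ⟨⟨y', hy'E⟩, hy'O, rfl⟩, by simp⟩⟩
    exact ⟨z.1, hz, hran (by simpa using hxj)⟩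
  let D' : Comp g V := ⟨_, c ≫ D.π, inferInstance, j', inferInstance,
    by rw [reassoc_of% hj', D.fac], hdense⟩
  have hEw : BlowUp.IsEffCartierIdeal (E.comap (w ≫ a)) :=
    Lib.Ideal.EffCartier.isEffCartier_comap_of_disjoint _ fun t => hoff _ (hw t)
  obtain ⟨wY, hwY, -⟩ := hc.2 _ (w ≫ a) hEw
  let w' : T ⟶ pullback a c := pullback.lift w wY hwY.symm
  have hw'f : w' ≫ pullback.fst a c = w := pullback.lift_fst _ _ _
  have hB : closure (Set.range w') ⊆ pullback.fst a c ⁻¹' closure (Set.range w) := fun z hz =>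
    map_mem_closure (f := fun z => pullback.fst a c z) (pullback.fst a c).continuous hz (by
      rintro _ ⟨t, rfl⟩
      refine ⟨t, ?_⟩
      show w t = pullback.fst a c (w' t)
      rw [← Scheme.Hom.comp_apply, hw'f])
  refine ⟨D', c, pullback a c, pullback.fst a c, pullback.snd a c, w', inferInstance, hj', rfl,
    hran, inferInstance, inferInstance, pullback.condition.symm, hw'f, hB, ?_⟩
  rintro z ⟨hz, hza⟩
  let M : pullback q c ⟶ pullback a c := pullback.map _ _ _ _ ι (𝟙 _) (𝟙 _) (by simp [q]) (by simp)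
  have hMr : Set.range M = pullback.fst a c ⁻¹' closure (Set.range w) := by
    simp only [M, Scheme.Pullback.range_map, hι]
    simp
  obtain ⟨z', rfl⟩ := hMr.ge (hB hz)
  have hfst : ∀ v, (pullback.fst a c) (M v) = ι ((pullback.fst q c) v) := fun v => by
    rw [← Scheme.Hom.comp_apply, ← Scheme.Hom.comp_apply]
    have h : M ≫ pullback.fst a c = pullback.fst q c ≫ ι := pullback.lift_fst _ _ _
    rw [h]
  have hsnd : ∀ v, (pullback.snd a c) (M v) = (pullback.snd q c) v := fun v => by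
    rw [← Scheme.Hom.comp_apply]
    have h : M ≫ pullback.snd a c = pullback.snd q c :=
      (pullback.lift_snd _ _ _).trans (Category.comp_id _)
    rw [h]
  show (pullback.fst a c) (M z') ∈ Z
  rw [hfst]
  refine hEc _ c hc ⟨?_, ?_⟩
  · show pullback.snd q c z' ∈ closure _
    rw [← hsnd]
    refine closure_mono ?_ hza
    rintro _ ⟨v, hv, rfl⟩
    show c (j' v) ∈ D.bd W ∩ Set.range D.j
    rw [← Scheme.Hom.comp_apply, hj']
    exact ⟨subset_closure ⟨v, hv, rfl⟩, v, rfl⟩
  · haveI : IsClosedImmersion M := by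
      exact MorphismProperty.pullbackMap (P := @IsClosedImmersion) (f := q) (g := c) (f' := a)
        (g' := c) (i₁ := ι) (i₂ := 𝟙 _) inferInstance inferInstance rfl (Category.id_comp _).symm
    rw [mem_closure_iff]
    intro O hO hzO
    obtain ⟨O', hO', hOO'⟩ := M.isClosedEmbedding.isInducing.isOpen_iff.1 hO
    obtain ⟨_, hyO', t, rfl⟩ := mem_closure_iff.1 hz O' hO' (hOO'.ge hzO)
    obtain ⟨v, hv⟩ := hMr.ge (hB (subset_closure ⟨t, rfl⟩))
    refine ⟨v, hOO'.le (show M v ∈ O' by rw [hv]; exact hyO'), ?_⟩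
    show ι (pullback.fst q c v) ∈ a ⁻¹' Set.range D.j
    rw [← hfst, hv, ← Scheme.Hom.comp_apply, hw'f]
    exact hw t

end Groth.Agent.H22.Nagata
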