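import Groth.Agent.H22.Nagata.Common
import Groth.Agent.H22.BlowUpComp.Extend

/-!
# Modifying a compactification away from the closure of the boundary
-/

set_option autoImplicit false
set_option maxHeartbeats 1000000

noncomputable section

universe u

open CategoryTheory CategoryTheory.Limits AlgebraicGeometry TopologicalSpace

namespace Groth.Agent.H22.Nagata

open Groth.Agent.Lib

variable {U S : Scheme.{u}} {g : U ⟶ S} {V W : U.Opens}

/-- The complement of the closed boundary. -/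
def Comp.inner (D : Comp g V) (W : U.Opens) : D.Y.Opens :=
  ⟨(D.bd W)ᶜ, isClosed_closure.isOpen_compl⟩

/-- Lifting the chart to an admissible blow-up. -/
theorem exists_lift_comp (D : Comp g V) (E : D.Y.IdealSheafData) (hE : Lim.IdealExt.IsFG E)
    (hoff : ∀ y ∈ Set.range D.j, y ∉ E.support) :
    ∃ (D' : Comp g V) (c : D'.Y ⟶ D.Y), BlowUp.IsBlowUp c E ∧ IsProper c ∧ D'.j ≫ c = D.j ∧
      c ≫ D.π = D'.π := by
  let c := BlowUpExists.blProj E
  have hc : BlowUp.IsBlowUp c E := BlowUpAmple.isBlowUp_blProj E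
  haveI : IsProper c := BlowUpExists.isProper_blProj hE
  obtain ⟨j', hj', -⟩ := hc.2 _ D.j
    (Lib.Ideal.EffCartier.isEffCartier_comap_of_disjoint _ fun v => hoff _ ⟨v, rfl⟩)
  let O : D.Y.Opens := E.support.compl
  haveI : IsIso (c ∣_ O) := Lib.Ideal.BlowUp.isIso_off_center hc
  haveI : IsOpenImmersion (j' ≫ c) := by rw [hj']; infer_instance
  have hjr : Set.range j' ⊆ Set.range (c ⁻¹ᵁ O).ι := by
    rintro _ ⟨v, rfl⟩
    rw [Scheme.Opens.range_ι]
    show c (j' v) ∉ E.support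
    rw [← Scheme.Hom.comp_apply, hj']
    exact hoff _ ⟨v, rfl⟩
  haveI : IsOpenImmersion j' := by
    let k := IsOpenImmersion.lift (c ⁻¹ᵁ O).ι j' hjr
    have hk : k ≫ (c ⁻¹ᵁ O).ι = j' := IsOpenImmersion.lift_fac _ _ _
    haveI : IsOpenImmersion (k ≫ (c ∣_ O) ≫ O.ι) := by
      rw [morphismRestrict_ι, reassoc_of% hk]
      infer_instance
    haveI : IsOpenImmersion k := IsOpenImmersion.of_comp k ((c ∣_ O) ≫ O.ι)
    rw [← hk]; infer_instance
  have hdense : DenseRange j' := by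
    rw [DenseRange, dense_iff_inter_open]
    intro T hT hne
    obtain ⟨y, hyT⟩ := hne
    obtain ⟨y', hy'T, hy'E⟩ : ∃ y' ∈ T, c y' ∉ E.support := by
      by_contra! hall
      have h10 : (1 : Γ(BlowUpExists.bl E, (⟨T, hT⟩ : (BlowUpExists.bl E).Opens))) = 0 := by
        refine Lib.Ideal.EffCartier.eq_zero_of_germ_eq_zero_off hc.1 _ fun z hz hzs => ?_
        refine absurd ?_ hzs
        rw [Scheme.IdealSheafData.support_comap]
        exact hall z hz
      have := congrArg ((BlowUpExists.bl E).presheaf.germ ⟨T, hT⟩ y hyT) h10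
      rw [map_one, map_zero] at this
      exact one_ne_zero this
    have hopen : IsOpen (O.ι '' ((c ∣_ O).homeomorph '' ((c ⁻¹ᵁ O).ι ⁻¹' T))) :=
      O.ι.isOpenEmbedding.isOpenMap _ ((c ∣_ O).homeomorph.isOpenMap _
        (hT.preimage (c ⁻¹ᵁ O).ι.continuous))
    obtain ⟨x, ⟨_, ⟨z, hz, rfl⟩, rfl⟩, v, hv⟩ := D.dense.inter_open_nonempty _ hopen
      ⟨c y', ⟨_, ⟨⟨y', hy'E⟩, hy'T, rfl⟩, by simp⟩⟩
    have hzc : c z.1 = D.j v := by simpa using hv.symm
    refine ⟨z.1, hz, v, StrictTransform.injOn_of_isIso (φ := c) (U := O) (x := z.1) z.2 ?_⟩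
    rw [← Scheme.Hom.comp_apply, hj', hzc]
  exact ⟨⟨_, c ≫ D.π, inferInstance, j', inferInstance, by rw [reassoc_of% hj', D.fac], hdense⟩,
    c, hc, inferInstance, hj', rfl⟩

/-- The modification of a compactification agreeing with a given blow-up over the inner open. -/
theorem exists_side [IsNoetherian S] (D : Comp g V) (h : W ≤ V) (J : D.Y.IdealSheafData)
    (hJ : Lim.IdealExt.IsFG J) (hJW : ∀ y ∈ D.core h, y ∉ J.support) {X : Scheme.{u}} (q : X ⟶ D.Y)
    (hq : BlowUp.IsBlowUp q J) :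
    ∃ (E : Comp g V) (c : E.Y ⟶ D.Y) (J' : D.Y.IdealSheafData)
      (jj : ((q ⁻¹ᵁ D.inner W : X.Opens) : Scheme.{u}) ⟶ E.Y),
      BlowUp.IsBlowUp c J' ∧ Lim.IdealExt.IsFG J' ∧ IsProper c ∧ E.j ≫ c = D.j ∧ c ≫ D.π = E.π ∧
      (∀ y ∈ Set.range D.j, y ∉ J'.support) ∧
      IsOpenImmersion jj ∧ jj ≫ c = (q ⁻¹ᵁ D.inner W).ι ≫ q ∧
      BlowUp.IsEffCartierIdeal ((J'.comap q).comap (q ⁻¹ᵁ D.inner W).ι) := by
  haveI := compactSpace_of_noetherian D
  set G := D.inner W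
  haveI : CompactSpace (G : Scheme.{u}) :=
    isCompact_iff_compactSpace.1 (NoetherianSpace.isCompact _)
  haveI : QuasiCompact G.ι := quasiCompact_iff_compactSpace G.ι |>.2 inferInstance
  obtain ⟨J', hJ', hJ'V, hJ'G⟩ := BlowUpComp.exists_extend G.ι D.j.opensRange
    (NoetherianSpace.isCompact _) (J.comap G.ι) (StrictTransform.isFG_comap' _ hJ) fun v hv hvs => by
      simp only [Scheme.IdealSheafData.support_comap] at hvs
      obtain ⟨t, ht⟩ := hv
      have htW : t.1 ∈ W := by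
        by_contra hn
        exact v.2 (show G.ι v ∈ D.bd W from subset_closure ⟨t, hn, ht⟩)
      refine hJW _ ⟨⟨t.1, htW⟩, ?_⟩ hvs
      rw [Scheme.Hom.comp_apply, ← ht]
      congr 1
      exact Subtype.ext (by simp)
  obtain ⟨E, c, hc, hcp, hjc, hcπ⟩ := exists_lift_comp D J' hJ' hJ'V
  have h1 : BlowUp.IsBlowUp (q ∣_ G) (J.comap G.ι) := BlowUpComp.isBlowUp_restrict hq G
  have h2 : BlowUp.IsBlowUp (c ∣_ G) (J.comap G.ι) := hJ'G ▸ BlowUpComp.isBlowUp_restrict hc G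
  obtain ⟨k₁, hk₁, hk₁e⟩ := BlowUpComp.exists_iso h1
  obtain ⟨k₂, hk₂, hk₂e⟩ := BlowUpComp.exists_iso h2
  refine ⟨E, c, J', k₁ ≫ inv k₂ ≫ (c ⁻¹ᵁ G).ι, hc, hJ', hcp, hjc, hcπ, hJ'V, inferInstance, ?_, ?_⟩
  · simp only [Category.assoc]
    rw [← morphismRestrict_ι, ← hk₂e, Category.assoc, IsIso.inv_hom_id_assoc, reassoc_of% hk₁e,
      morphismRestrict_ι]
  · rw [← Scheme.IdealSheafData.comap_comp, ← morphismRestrict_ι, Scheme.IdealSheafData.comap_comp,
      hJ'G]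
    exact h1.1

end Groth.Agent.H22.Nagata
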